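import Cfsg.Agent.H301.SY.Spor
import Cfsg.Agent.S1679
import Cfsg.Agent.S1055
import Cfsg.Agent.S1059
import Cfsg.Agent.H393.Iso.Suz
import Cfsg.Agent.LThreeFi22.Inst
import Cfsg.Agent.CTwoTab.Fi22
import Cfsg.Agent.S1685
import Cfsg.Agent.S1686
import Cfsg.Agent.S0295
import Cfsg.Agent.H959.T5.Tools_m3
import Cfsg.Agent.R10.Close
import Cfsg.Agent.Ly.IndexEq
import Cfsg.Agent.SporRec.LyG2.LyEmb
import Cfsg.Agent.KFacts.ON.Qs
import Cfsg.Agent.KFacts.ON.Words_m3
import Cfsg.Agent.SporRec.ONFinal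
import Cfsg.Agent.H868.HeFi24
import Cfsg.Agent.S1698
import Mathlib
import Cfsg.Agent.H947.Sy.Psu3
import Cfsg.Agent.H109.NrOrb_m3
import Cfsg.Agent.H109.NrM
import Cfsg.Agent.H109.NrThirteen
import Cfsg.Agent.H961.CRM.Base
import Cfsg.Agent.H961.SevM
import Cfsg.Agent.FastGrp
import Cfsg.Agent.Prune
set_option linter.all false
prune_inst 0x7f00000000000000000000000000000000000000000000000000000000000000000000000000000000000000000000000000000000000000000000000000000000000000000000000000000000000000003fffffffffffffffffffffffffffbeffbdffffffff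
open scoped Cfsg.Agent.FastGrp

-- part: H566/NoE/Tool
section
/-!
# S3846: a subgroup of index prime to `p` (helper566)
-/

set_option autoImplicit false

namespace Cfsg.Agent.H566.NoE

open Cfsg Subgroup Cfsg.Agent.H459.Rad Cfsg.Agent.H301.SY

variable {K : Type*} [Group K] [Finite K] {p : ℕ} [hp : Fact p.Prime]

/-- a proper subgroup of index prime to `p` with radical of order prime to `p` -/
theorem of_index {L : Subgroup K} (hL : L ≠ ⊤) (hi : ¬ p ∣ L.index) (hr : ¬ p ∣ Nat.card (radIn L)) : NoE p K := by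
  obtain ⟨S⟩ : Nonempty (Sylow p L) := inferInstance
  have h1 : IsPGroup p ↥((S : Subgroup L).map L.subtype) := S.isPGroup'.map _
  obtain ⟨P, hP⟩ := h1.exists_le_sylow
  refine NoE.of_sylow hL P ?_ hr
  have h2 : (S : Subgroup L).map L.subtype = (P : Subgroup K) := by
    refine Subgroup.eq_of_le_of_card_ge hP ?_
    rw [Subgroup.card_map_of_injective L.subtype_injective, S.card_eq_multiplicity, P.card_eq_multiplicity]
    refine Nat.pow_le_pow_right hp.out.pos ?_
    rw [← L.card_mul_index, Nat.factorization_mul Nat.card_pos.ne' L.index_ne_zero_of_finite]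
    rw [Finsupp.add_apply, Nat.factorization_eq_zero_of_not_dvd hi, add_zero]
  rw [← h2]
  exact map_subtype_le _

/-- a simple subgroup -/
theorem rad_simple {Q : Type*} [Group Q] [Finite Q] [IsSimpleGroup Q] (hQ : ¬ Group.IsSolvable Q) {L : Subgroup K}
    (e : L ≃* Q) : ¬ p ∣ Nat.card (radIn L) := by
  have h1 : solvableRadical L ≤ e.toMonoidHom.ker := by
    intro z hz
    have h2 := map_rad_le (f := e.toMonoidHom) e.surjective hz
    rw [rad_eq_bot_of_simple hQ, mem_bot] at h2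
    exact h2
  rw [(MonoidHom.ker_eq_bot_iff _).2 e.injective] at h1
  have h2 : radIn L = ⊥ := by
    rw [radIn, le_bot_iff.1 h1, Subgroup.map_bot]
  rw [h2, card_bot]
  intro h
  exact hp.out.one_lt.ne' (Nat.dvd_one.1 h)

theorem not_solvable {Q : Type*} [Group Q] [IsSimpleGroup Q] (h : ¬ IsMulCommutative Q) : ¬ Group.IsSolvable Q := by
  intro hs
  exact h ⟨⟨(IsSimpleGroup.comm_iff_isSolvable (G := Q)).2 hs⟩⟩

theorem not_comm [IsSimpleGroup K] (h : ¬ (Nat.card K).Prime) : ¬ IsMulCommutative K := by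
  intro hcom
  apply h
  letI : CommGroup K := { (inferInstance : Group K) with mul_comm := hcom.is_comm.comm }
  exact IsSimpleGroup.prime_card (α := K)

theorem card_syl (T : Sylow p K) {n m : ℕ} (h : Nat.card K = p ^ n * m) (hm : ¬ p ∣ m) : Nat.card T = p ^ n := by
  rw [T.card_eq_multiplicity, h, Nat.factorization_mul (pow_ne_zero _ hp.out.ne_zero)
    (by rintro rfl; exact hm (dvd_zero _)), Finsupp.add_apply, hp.out.factorization_pow, Finsupp.single_eq_same,
    Nat.factorization_eq_zero_of_not_dvd hm, add_zero]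

end Cfsg.Agent.H566.NoE
end

-- part: H566/NoE/Suz
section
/-!
# S3846: `Suz` (helper566)
-/

set_option autoImplicit false

namespace Cfsg.Agent.H566.NoE

open Cfsg Subgroup Cfsg.Agent.H459.Rad Cfsg.Agent.H301.SY

/-- `G₂(4)` in `Suz` -/
theorem suz_sub {p : ℕ} [hp : Fact p.Prime] [Finite Spor.Suz] (hK : Nat.card Spor.Suz = 448345497600)
    (h : ¬ p ∣ 1782) : NoE p Spor.Suz := by
  obtain ⟨F, _, _, hF, ⟨e⟩⟩ := Cfsg.Agent.S1679.result
  have hF' : ∃ a : F, a ≠ 0 ∧ a ≠ 1 := by
    classical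
    by_contra hcon
    push Not at hcon
    have h1 : (Finset.univ : Finset F) ⊆ {0, 1} := by
      intro a _
      rw [Finset.mem_insert, Finset.mem_singleton]
      by_cases h0 : a = 0
      · exact Or.inl h0
      · exact Or.inr (hcon a h0)
    have h2 := Finset.card_le_card h1
    rw [Finset.card_univ, hF] at h2
    have h3 : ({0, 1} : Finset F).card ≤ 2 := Finset.card_le_two
    omega
  obtain ⟨hs, hna⟩ := Cfsg.Agent.S1055.result hF'
  have hc : Nat.card ↥(Lie.chevG2.group F) = 251596800 := by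
    rw [Cfsg.Agent.S1059.result (F := F) (q := 4) hF]
    norm_num
  have hfin : Finite ↥(Lie.chevG2.group F) := Nat.finite_of_card_ne_zero (by rw [hc]; norm_num)
  have hL := Nat.card_congr e.toEquiv
  rw [hc] at hL
  have hidx := Subgroup.card_mul_index (((Subgroup.closure ({Cfsg.Spor.Suz.a, Cfsg.Spor.Suz.b, Cfsg.Spor.Suz.c, Cfsg.Spor.Suz.d, Cfsg.Spor.Suz.e, Cfsg.Spor.Suz.f} : Set (FreeGroup Cfsg.Spor.Suz.Gen))).map (PresentedGroup.mk (Cfsg.Spor.coxRelators Cfsg.Spor.Suz.edges ∪ {r | r ∈ Cfsg.Spor.Suz.extra}))))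
  rw [hL] at hidx
  have hi := hidx.trans hK
  refine of_index ?_ ?_ (rad_simple (not_solvable hna) e)
  · intro ht
    rw [ht, Subgroup.index_top] at hi
    norm_num at hi
  · intro hd
    apply h
    have h2 : Subgroup.index (((Subgroup.closure ({Cfsg.Spor.Suz.a, Cfsg.Spor.Suz.b, Cfsg.Spor.Suz.c, Cfsg.Spor.Suz.d, Cfsg.Spor.Suz.e, Cfsg.Spor.Suz.f} : Set (FreeGroup Cfsg.Spor.Suz.Gen))).map (PresentedGroup.mk (Cfsg.Spor.coxRelators Cfsg.Spor.Suz.edges ∪ {r | r ∈ Cfsg.Spor.Suz.extra})))) = 1782 := by omega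
    rwa [h2] at hd

theorem noE_suz {K : Type*} [Group K] [Finite K] [IsSimpleGroup K] (h : Cfsg.Spor.IsoSuz K) {p : ℕ}
    [hp : Fact p.Prime] (hp5 : 5 ≤ p) (hb : Cfsg.Agent.H301.SY.Blk p K) (hO : Cfsg.Agent.H301.SY.ThO p K) :
    Cfsg.Agent.H301.SY.NoE p K := by
  have hK : Nat.card K = 448345497600 := by
    obtain ⟨e⟩ := h
    rw [Nat.card_congr e.toEquiv]
    exact Cfsg.Agent.SporadicRecognition.SuzOrder.card_Suz
  by_cases hd : p ∣ 1782
  · -- `p = 11`
    have hp11 : p = 11 := by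
      have h1 : (1782 : ℕ) = 2 * 3 * (3 * 3) * (3 * 11) := by norm_num
      rw [h1] at hd
      have h2 := hp.out.prime
      rcases h2.dvd_or_dvd hd with hd | hd
      · rcases h2.dvd_or_dvd hd with hd | hd
        · rcases h2.dvd_or_dvd hd with hd | hd
          · have := Nat.le_of_dvd (by norm_num) hd
            omega
          · have := Nat.le_of_dvd (by norm_num) hd
            omega
        · rcases h2.dvd_or_dvd hd with hd | hd <;>
          · have := Nat.le_of_dvd (by norm_num) hd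
            omega
      · rcases h2.dvd_or_dvd hd with hd | hd
        · have := Nat.le_of_dvd (by norm_num) hd
          omega
        · exact (Nat.prime_dvd_prime_iff_eq hp.out (by norm_num)).1 hd
    subst hp11
    have hna : ¬ IsMulCommutative K := not_comm (by rw [hK]; norm_num)
    have hcyc : ∀ P : Sylow 11 K, IsCyclic (P : Subgroup K) := cyclic_of_card (by rw [hK]; norm_num)
    refine NoE.of_m0 hna hcyc fun x hx hR hY => m0_num hcyc hb hO hx hR hY fun t ht htp htd => ?_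
    have hcases : t = 2 ∨ t = 5 := by
      have h1 : t ∣ 2 * 5 := by simpa using htd
      rcases (Nat.Prime.dvd_mul ht).1 h1 with h2 | h2
      · exact Or.inl ((Nat.prime_dvd_prime_iff_eq ht (by norm_num)).1 h2)
      · exact Or.inr ((Nat.prime_dvd_prime_iff_eq ht (by norm_num)).1 h2)
    rcases hcases with rfl | rfl
    · right
      have h2 : Fact (Nat.Prime 2) := ⟨by norm_num⟩
      obtain ⟨T⟩ : Nonempty (Sylow 2 K) := inferInstance
      refine ⟨?_, T, ?_⟩
      · intro h2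
        obtain ⟨z, hz⟩ := exists_prime_orderOf_dvd_card' 2 h2
        refine Cfsg.Agent.H393.Iso.na_suz h x (z : K) hx (by rw [Subgroup.orderOf_coe, hz]) ?_
        exact mem_centralizer_iff.1 z.2 x rfl
      · intro a j n hT hpa hj hn hpn hna' _
        have hT' : Nat.card T = 2 ^ 13 := by
          exact card_syl T (m := 54729675) (by rw [hK]; norm_num) (by norm_num)
        rw [hT'] at hT
        have h3 : 13 = a + j := Nat.pow_right_injective le_rfl hT
        have h4 : j ≤ 1 := by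
          by_contra h5
          have h6 : 2 ^ 2 ∣ 10 := (pow_dvd_pow 2 (by omega)).trans hj
          norm_num at h6
        have h5 : a = 12 ∨ a = 13 := by omega
        rcases h5 with rfl | rfl <;> norm_num at hpa
    · left
      intro i hi hdi
      have h3 : i ≤ 2 := by
        by_contra h5
        have h6 : 5 ^ 3 ∣ Nat.card K := (pow_dvd_pow 5 (by omega)).trans hdi
        rw [hK] at h6
        norm_num at h6
      interval_cases i <;> decide
  · obtain ⟨e⟩ := h
    have hfin := Finite.of_equiv K e.toEquiv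
    exact (suz_sub Cfsg.Agent.SporadicRecognition.SuzOrder.card_Suz hd).congr e

end Cfsg.Agent.H566.NoE
end

-- part: H566/NoE/Fi22
section
/-!
# S3846: `Fi22` (helper566)
-/

set_option autoImplicit false

namespace Cfsg.Agent.H566.NoE

open Cfsg Subgroup Cfsg.Agent.H459.Rad Cfsg.Agent.H301.SY

/-- the radical of a quasisimple subgroup is central -/
theorem rad_quasi {K : Type*} [Group K] [Finite K] {M : Subgroup K} (hq : IsQuasisimple M) :
    Nat.card (radIn M) ∣ Nat.card ↥(center M) := by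
  have h1 : solvableRadical M ≤ center M := by
    rcases Cfsg.Agent.SignalizersComponents.Components.quasisimple_normal hq _ (rad_normal M) with h2 | h2
    · exact absurd (rad_eq_top_iff.1 h2)
        (Cfsg.Agent.SignalizersComponents.Components.quasisimple_not_isSolvable hq)
    · exact h2
  have h2 : Nat.card (radIn M) = Nat.card (solvableRadical M) :=
    Subgroup.card_map_of_injective M.subtype_injective
  rw [h2]
  exact Subgroup.card_dvd_of_le h1

/-- the centralizer of a transposition -/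
theorem fi22_cent {d : Spor.Fi22} (hd : d ∈ Cfsg.Agent.R08.AutT.T) :
    Nat.card ↥(centralizer ({d} : Set Spor.Fi22)) = 18393661440 ∧
      Nat.card (radIn (centralizer ({d} : Set Spor.Fi22))) ∣ 2 := by
  have hfin := Cfsg.Agent.CTwoTab.Fi22.finite
  obtain ⟨b, c, ht⟩ := Cfsg.Agent.StdFi22.MainFi22.bas.exists_tri hd
  obtain ⟨R, F⟩ := Cfsg.Agent.CTwoTab.Fi22.facts hd ht.my ht.xy ht.cxy
  refine ⟨Cfsg.Agent.CTwoTab.Fi22.card_cent F, ?_⟩
  have h1 := rad_quasi F.quasi
  rwa [Cfsg.Agent.CTwoTab.Fi22.card_center F] at h1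

theorem fi22_sub {p : ℕ} [hp : Fact p.Prime] (hp5 : 5 ≤ p) : NoE p Spor.Fi22 := by
  have hfin := Cfsg.Agent.CTwoTab.Fi22.finite
  have C := Cfsg.Agent.LThreeFi22.Inst.ctx (MulEquiv.refl Spor.Fi22)
  have hK : Nat.card Spor.Fi22 = 64561751654400 := C.card
  have hr : ∀ n : ℕ, n ∣ 2 → ¬ p ∣ n := by
    intro n hn hpn
    have := Nat.le_of_dvd (by norm_num) (hpn.trans hn)
    omega
  by_cases h5 : p = 5
  · subst h5
    refine NoE.of_sub fun x hx => ?_
    obtain ⟨t, ht, htx⟩ := C.ex5 x (by rw [← hx]; exact pow_orderOf_eq_one x) (by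
      rintro rfl
      rw [orderOf_one] at hx
      norm_num at hx)
    have ht' : t ∈ Cfsg.Agent.R08.AutT.T := by
      obtain ⟨s, hs, hst⟩ := ht
      have : s = t := hst
      rw [← this]
      exact hs
    obtain ⟨h1, h2⟩ := fi22_cent ht'
    refine ⟨centralizer ({t} : Set Spor.Fi22), ?_, mem_centralizer_singleton_iff.2 htx, hr _ h2⟩
    intro htop
    rw [htop, card_top, hK] at h1
    norm_num at h1
  by_cases h13 : p = 13
  · subst h13
    obtain ⟨e⟩ := Cfsg.Agent.S1686.result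
    have h2 := Cfsg.Agent.S0295.result (F := ZMod 3) (by rw [ZMod.card]; decide) 3 le_rfl
    have hidx := Subgroup.card_mul_index (((Subgroup.closure ({Cfsg.Spor.Fi22.b, Cfsg.Spor.Fi22.c, Cfsg.Spor.Fi22.d, Cfsg.Spor.Fi22.e, Cfsg.Spor.Fi22.f, Cfsg.Spor.Fi22.g, Cfsg.Spor.Fi22.h, Cfsg.Spor.Fi22.i} : Set (FreeGroup Cfsg.Spor.Fi22.Gen))).map (PresentedGroup.mk (Cfsg.Spor.coxRelators Cfsg.Spor.Fi22.edges ∪ {r | r ∈ Cfsg.Spor.Fi22.extra}))))
    rw [Cfsg.Agent.S1685.result] at hidx
    have hi := hidx.trans hK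
    have hc : Nat.card (Cfsg.POmega (ZMod 3) (Cfsg.quadFormOdd 3 (ZMod 3))) = 4585351680 := by
      refine (Nat.card_congr e.toEquiv).symm.trans ?_
      exact Nat.eq_of_mul_eq_mul_right (by norm_num : 0 < 14080)
        (hi.trans (by norm_num : 64561751654400 = 4585351680 * 14080))
    have hfinQ : Finite (Cfsg.POmega (ZMod 3) (Cfsg.quadFormOdd 3 (ZMod 3))) :=
      Nat.finite_of_card_ne_zero (by rw [hc]; norm_num)
    refine of_index ?_ ?_ (rad_simple (not_solvable (not_comm ?_)) e)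
    · intro ht
      have h3 := Cfsg.Agent.S1685.result
      rw [ht, Subgroup.index_top] at h3
      norm_num at h3
    · rw [Cfsg.Agent.S1685.result]
      norm_num
    · rw [hc]
      norm_num
  · obtain ⟨t, ht⟩ : ∃ t : Spor.Fi22, t ∈ Cfsg.Agent.R08.AutT.T := by
      obtain ⟨a, ha, -⟩ := C.mupos
      obtain ⟨s, hs, hst⟩ := ha
      exact ⟨s, hs⟩
    obtain ⟨h1, h2⟩ := fi22_cent ht
    have hidx := Subgroup.card_mul_index (centralizer ({t} : Set Spor.Fi22))
    rw [h1, hK] at hidx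
    have hi : (centralizer ({t} : Set Spor.Fi22)).index = 3510 := by omega
    refine of_index ?_ ?_ (hr _ h2)
    · intro htop
      rw [htop, card_top, hK] at h1
      norm_num at h1
    · rw [hi]
      intro hd
      have h1 : (3510 : ℕ) = 2 * 3 * (3 * 3) * (5 * 13) := by norm_num
      rw [h1] at hd
      have h2 := hp.out.prime
      rcases h2.dvd_or_dvd hd with hd | hd
      · rcases h2.dvd_or_dvd hd with hd | hd
        · rcases h2.dvd_or_dvd hd with hd | hd
          · have := Nat.le_of_dvd (by norm_num) hd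
            omega
          · have := Nat.le_of_dvd (by norm_num) hd
            omega
        · rcases h2.dvd_or_dvd hd with hd | hd <;>
          · have := Nat.le_of_dvd (by norm_num) hd
            omega
      · rcases h2.dvd_or_dvd hd with hd | hd
        · exact h5 ((Nat.prime_dvd_prime_iff_eq hp.out (by norm_num)).1 hd)
        · exact h13 ((Nat.prime_dvd_prime_iff_eq hp.out (by norm_num)).1 hd)

theorem noE_fi22 {K : Type*} [Group K] [Finite K] [IsSimpleGroup K] (h : Cfsg.Spor.IsoFi22 K) {p : ℕ}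
    [hp : Fact p.Prime] (hp5 : 5 ≤ p) (_hb : Cfsg.Agent.H301.SY.Blk p K) (_hO : Cfsg.Agent.H301.SY.ThO p K) :
    Cfsg.Agent.H301.SY.NoE p K := by
  obtain ⟨e⟩ := h
  have hfin := Cfsg.Agent.CTwoTab.Fi22.finite
  exact (fi22_sub hp5).congr e

end Cfsg.Agent.H566.NoE
end

-- part: H51/SY/Ly
section
/-!
# S3846: the Lyons group (helper51)

`p = 5, 7, 31` : the subgroup `G₂(5)`; `p = 11` : the centralizer `2.A₁₁` of an involution; `p = 37, 67` : by order.
-/

set_option autoImplicit false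

namespace Cfsg.Agent.H51.SY.Ly

open Subgroup Cfsg.Agent.H301.SY Cfsg.Agent.H459.Rad Cfsg.Agent.SporRec.LyG2 Cfsg.Agent.H51.SY

theorem card_ly : Nat.card Cfsg.Spor.Ly = 51765179004000000 := Cfsg.Agent.Ly.IndexEq.card_ly

theorem finite_ly : Finite Cfsg.Spor.Ly := Nat.finite_of_card_ne_zero (by rw [card_ly]; norm_num)

theorem H_ne : LyEmb.H ≠ ⊤ := by
  intro h
  have h1 := LyEmb.card_H
  rw [h, card_top, card_ly] at h1
  norm_num at h1

theorem index_H : LyEmb.H.index = 8835156 := by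
  have h := LyEmb.H.card_mul_index
  rw [LyEmb.card_H, card_ly] at h
  omega

theorem rad_H {p : ℕ} (hp : p.Prime) : ¬ p ∣ Nat.card (radIn LyEmb.H) := by
  have := finite_ly
  have hs : IsSimpleGroup LyEmb.H := LyEmb.isSimpleGroup_H
  exact card_radIn_of_simple hp (by rw [LyEmb.card_H]; norm_num)

theorem five : NoE 5 Cfsg.Spor.Ly := by
  have := finite_ly
  have : Fact (Nat.Prime 5) := ⟨by norm_num⟩
  exact noE_of_index H_ne (by rw [index_H]; norm_num) (rad_H (by norm_num))

theorem of_H {p : ℕ} (hp : p.Prime) (h : p ∣ 5859000000) (h2 : ¬ p ^ 2 ∣ 51765179004000000) : NoE p Cfsg.Spor.Ly := by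
  have := finite_ly
  have : Fact p.Prime := ⟨hp⟩
  exact NoE.of_lw (cyclic_of_card (by rw [card_ly]; exact h2)) ⟨LyEmb.H, H_ne, by rw [LyEmb.card_H]; exact h, rad_H hp⟩

theorem eleven : NoE 11 Cfsg.Spor.Ly := by
  have := finite_ly
  have : Fact (Nat.Prime 11) := ⟨by norm_num⟩
  obtain ⟨h1, h2, ⟨e⟩, -⟩ := Cfsg.Agent.R10.Close.cover_τ
  refine NoE.of_lw (cyclic_of_card (by rw [card_ly]; norm_num))
    (Lw.of_hom (L := centralizer ({Cfsg.Agent.R10.Close.τ} : Set Cfsg.Spor.Ly)) ?_ (by rw [h1]; norm_num)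
      (e.toMonoidHom.comp (QuotientGroup.mk' _)) (e.surjective.comp (QuotientGroup.mk'_surjective _)) ?_ ?_)
  · intro h
    rw [h, card_top, card_ly] at h1
    norm_num at h1
  · have hs : IsSimpleGroup (alternatingGroup (Fin 11)) :=
      alternatingGroup.isSimpleGroup (by rw [Nat.card_eq_fintype_card, Fintype.card_fin]; norm_num)
    exact rad_eq_bot_of_simple fun hsol => not_comm_of_card (K := alternatingGroup (Fin 11)) (by
      rw [nat_card_alternatingGroup, Nat.card_eq_fintype_card, Fintype.card_fin]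
      norm_num [Nat.factorial])
      ⟨⟨fun a b => IsSimpleGroup.comm_iff_isSolvable.2 hsol a b⟩⟩
  · have h3 : (e.toMonoidHom.comp (QuotientGroup.mk' (center
        ↥(centralizer ({Cfsg.Agent.R10.Close.τ} : Set Cfsg.Spor.Ly))))).ker =
        center ↥(centralizer ({Cfsg.Agent.R10.Close.τ} : Set Cfsg.Spor.Ly)) := by
      ext z
      rw [MonoidHom.mem_ker]
      exact e.map_eq_one_iff.trans (QuotientGroup.eq_one_iff z)
    rw [h3, h2]
    norm_num

/-- **`Ly`** -/
theorem noE_ly {K : Type*} [Group K] [Finite K] [IsSimpleGroup K] (h : Cfsg.Spor.IsoLy K) {p : ℕ} [hf : Fact p.Prime]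
    (hp : 5 ≤ p) (hb : Blk p K) (hO : ThO p K) : NoE p K := by
  obtain ⟨e⟩ := h
  have := finite_ly
  have hc : Nat.card K = 51765179004000000 := (Nat.card_congr e.toEquiv).trans card_ly
  have hna : ¬ IsMulCommutative K := not_comm_of_card (by rw [hc]; norm_num)
  by_cases hd : p ∣ 51765179004000000
  swap
  · exact noE_of_not_dvd (by rw [hc]; exact hd)
  have hpp := hf.out
  have h1 : p ∣ 2 ^ 8 * 3 ^ 7 * 5 ^ 6 * 7 * 11 * 31 * 37 * 67 := by norm_num; exact hd
  have h2 : p = 5 ∨ p = 7 ∨ p = 11 ∨ p = 31 ∨ p = 37 ∨ p = 67 := by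
    rw [hpp.dvd_mul, hpp.dvd_mul, hpp.dvd_mul, hpp.dvd_mul, hpp.dvd_mul, hpp.dvd_mul, hpp.dvd_mul] at h1
    have key : ∀ {q : ℕ}, q.Prime → p ∣ q → p = q := fun hq h => (Nat.prime_dvd_prime_iff_eq hpp hq).1 h
    rcases h1 with ((((((h1 | h1) | h1) | h1) | h1) | h1) | h1) | h1
    · have := key Nat.prime_two (hpp.dvd_of_dvd_pow h1); omega
    · have := key Nat.prime_three (hpp.dvd_of_dvd_pow h1); omega
    · have := key Nat.prime_five (hpp.dvd_of_dvd_pow h1); omega
    · have := key (by norm_num) h1; omega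
    · have := key (by norm_num) h1; omega
    · have := key (by norm_num) h1; omega
    · have := key (by norm_num) h1; omega
    · have := key (by norm_num) h1; omega
  rcases h2 with rfl | rfl | rfl | rfl | rfl | rfl
  · exact NoE.congr e five
  · exact NoE.congr e (of_H hpp (by norm_num) (by norm_num))
  · exact NoE.congr e eleven
  · exact NoE.congr e (of_H hpp (by norm_num) (by norm_num))
  · refine noE_of_order hna (by rw [hc]; norm_num) hb hO fun t ht htd => ?_
    have h3 : t ∣ 2 ^ 2 * 3 ^ 2 := htd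
    rcases ht.dvd_mul.1 h3 with h4 | h4
    · have := (Nat.prime_dvd_prime_iff_eq ht Nat.prime_two).1 (ht.dvd_of_dvd_pow h4)
      subst this
      exact cond_order (v := 8) (by rw [hc]; norm_num) (by decide)
    · have := (Nat.prime_dvd_prime_iff_eq ht Nat.prime_three).1 (ht.dvd_of_dvd_pow h4)
      subst this
      exact cond_order (v := 7) (by rw [hc]; norm_num) (by decide)
  · refine noE_of_order hna (by rw [hc]; norm_num) hb hO fun t ht htd => ?_
    have h3 : t ∣ 2 * 3 * 11 := htd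
    rcases ht.dvd_mul.1 h3 with h4 | h4
    · rcases ht.dvd_mul.1 h4 with h4 | h4
      · have := (Nat.prime_dvd_prime_iff_eq ht Nat.prime_two).1 h4
        subst this
        exact cond_order (v := 8) (by rw [hc]; norm_num) (by decide)
      · have := (Nat.prime_dvd_prime_iff_eq ht Nat.prime_three).1 h4
        subst this
        exact cond_order (v := 7) (by rw [hc]; norm_num) (by decide)
    · have := (Nat.prime_dvd_prime_iff_eq ht (by norm_num)).1 h4
      subst this
      exact cond_order (v := 1) (by rw [hc]; norm_num) (by decide)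

end Cfsg.Agent.H51.SY.Ly
end

-- part: H51/SY/ON
section
/-!
# S3846: the O'Nan group (helper51)

`p = 5` : the centralizer `4.L₃(4)` of an element of order 4; `p = 7` : the subgroup `L₃(7):2`; `p = 11, 19` : by
order; `p = 31` : Theorem O for the prime `2`.
-/

set_option autoImplicit false

namespace Cfsg.Agent.H51.SY.ON

open Subgroup Cfsg.Agent.H301.SY Cfsg.Agent.H459.Rad Cfsg.Agent.H51.SY
open Cfsg.Spor (ON)
open Cfsg.Agent.SporadicB.ON45Word (on)
open Cfsg.Agent.KFacts.ON.Struct (J card_J)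
open Cfsg.Agent.KFacts.ON.Words (v)

theorem card_on : Nat.card ON = 460815505920 := Cfsg.Agent.KFacts.ON.OneClass.card_ON

theorem finite_on : Finite ON := Cfsg.Agent.KFacts.ON.OneClass.finite_ON

theorem five : NoE 5 ON := by
  have := finite_on
  have : Fact (Nat.Prime 5) := ⟨by norm_num⟩
  have hs : IsSimpleGroup (J ⧸ center J) := Cfsg.Agent.KFacts.ON.Qs.simple_J
  have hv : orderOf v ∣ 4 := orderOf_dvd_of_pow_eq_one Cfsg.Agent.KFacts.ON.Qs.v4
  have hc : Nat.card (center J) ∣ 4 := by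
    have h1 : (center J).map J.subtype ≤ zpowers v := by
      rintro _ ⟨x, hx, rfl⟩
      exact Cfsg.Agent.KFacts.ON.Qs.mem_center.1 hx
    have h2 := Subgroup.card_dvd_of_le h1
    rw [Subgroup.card_map_of_injective J.subtype_injective, Nat.card_zpowers] at h2
    exact h2.trans hv
  refine NoE.of_lw (cyclic_of_card (by rw [card_on]; norm_num))
    (Lw.of_hom (L := J) ?_ (by rw [card_J]; norm_num) (QuotientGroup.mk' (center J))
      (QuotientGroup.mk'_surjective _) (rad_eq_bot_of_simple fun hsol => ?_) ?_)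
  · intro h
    have h1 := card_J
    rw [h, card_top, card_on] at h1
    norm_num at h1
  · refine not_comm_of_card (K := J ⧸ center J) ?_ ⟨⟨fun a b => IsSimpleGroup.comm_iff_isSolvable.2 hsol a b⟩⟩
    intro hp
    have h1 : Nat.card (J ⧸ center J) * Nat.card (center J) = 80640 := by
      rw [← Subgroup.card_eq_card_quotient_mul_card_subgroup, card_J]
    obtain ⟨k, hk⟩ := hc
    have h2 : 20160 ∣ Nat.card (J ⧸ center J) := by
      refine ⟨k, ?_⟩
      have h3 : 0 < Nat.card (center J) := Nat.card_pos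
      have h4 : Nat.card (J ⧸ center J) * Nat.card (center J) = 20160 * k * Nat.card (center J) := by
        rw [h1]
        calc 80640 = 20160 * 4 := by norm_num
          _ = 20160 * (Nat.card (center J) * k) := by rw [← hk]
          _ = _ := by ring
      exact Nat.eq_of_mul_eq_mul_right h3 h4
    have h3 : (2 : ℕ) ∣ Nat.card (J ⧸ center J) := (by norm_num : 2 ∣ 20160).trans h2
    have h4 := (Nat.prime_dvd_prime_iff_eq Nat.prime_two hp).1 h3
    rw [← h4] at h2
    norm_num at h2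
  · rw [QuotientGroup.ker_mk']
    intro h
    have := h.trans hc
    norm_num at this

/-- the subgroup `L₃(7):2` -/
theorem seven : NoE 7 ON := by
  have := finite_on
  have : Fact (Nat.Prime 7) := ⟨by norm_num⟩
  obtain ⟨N, hN, hi, ⟨e⟩⟩ := Cfsg.Agent.SporRec.ONAssembly.exists_normal Cfsg.Agent.SporRec.ONLower.ab_ne_one
  have hsP : IsSimpleGroup (Matrix.ProjectiveSpecialLinearGroup (Fin 3) (ZMod 7)) :=
    Cfsg.Agent.SporRec.ONL37.simple_PSL37
  have hcH := Cfsg.Agent.SporRec.ONAssembly.card_H Cfsg.Agent.SporRec.ONLower.ab_ne_one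
  have hiH : (Cfsg.Agent.SporRec.ONAssembly.H).index = 122760 := by
    have h1 := (Cfsg.Agent.SporRec.ONAssembly.H).card_mul_index
    rw [hcH, card_on] at h1
    omega
  have hnt : Nontrivial N := e.toEquiv.nontrivial
  have hsN : IsSimpleGroup N := IsSimpleGroup.isSimpleGroup_of_surjective e.symm.toMonoidHom e.symm.surjective
  have hcN : Nat.card N = 1876896 := by
    have h1 := N.card_mul_index
    rw [hi, hcH] at h1
    omega
  have hnot : ¬ Group.IsSolvable N := fun hsol => not_comm_of_card (K := N) (by rw [hcN]; norm_num)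
    ⟨⟨fun a b => IsSimpleGroup.comm_iff_isSolvable.2 hsol a b⟩⟩
  refine noE_of_index (L := Cfsg.Agent.SporRec.ONAssembly.H) ?_ ?_ ?_
  · intro h
    rw [h, card_top, card_on] at hcH
    norm_num at hcH
  · rw [hiH]
    norm_num
  · have h2 : Nat.card (radIn Cfsg.Agent.SporRec.ONAssembly.H) =
        Nat.card (solvableRadical Cfsg.Agent.SporRec.ONAssembly.H) :=
      Subgroup.card_map_of_injective (Cfsg.Agent.SporRec.ONAssembly.H).subtype_injective
    rw [h2]
    set R := solvableRadical Cfsg.Agent.SporRec.ONAssembly.H with hR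
    have hRn : R.Normal := rad_normal _
    have h3 : R.subgroupOf N = ⊥ := by
      rcases (inferInstance : (R.subgroupOf N).Normal).eq_bot_or_eq_top with h4 | h4
      · exact h4
      · exfalso
        apply hnot
        have h5 : N ≤ R := Subgroup.subgroupOf_eq_top.1 h4
        exact Cfsg.Agent.SignalizersComponents.ComponentExists.isSolvable_of_le h5 (rad_solvable _)
    have h4 : N.subgroupOf R = ⊥ := by
      rw [Subgroup.subgroupOf_eq_bot] at h3 ⊢
      exact h3.symm
    have h5 : N.relIndex R ∣ 2 := hi ▸ Subgroup.relIndex_dvd_index_of_normal N R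
    have h6 : N.relIndex R = Nat.card R := by
      rw [Subgroup.relIndex, h4, Subgroup.index_bot]
    rw [h6] at h5
    intro h7
    have := h7.trans h5
    norm_num at this

/-- the centralizer of an element of order `31` has odd order -/
theorem odd_cent {x : ON} (hx : orderOf x = 31) : ¬ 2 ∣ Nat.card (centralizer ({x} : Set ON)) := by
  have := finite_on
  intro h
  have : Fact (Nat.Prime 2) := ⟨Nat.prime_two⟩
  obtain ⟨⟨t, ht⟩, ht2⟩ := exists_prime_orderOf_dvd_card' (G := centralizer ({x} : Set ON)) 2 h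
  rw [Subgroup.orderOf_mk] at ht2
  have h1 : t * t = 1 := by
    rw [← pow_two, ← ht2]
    exact pow_orderOf_eq_one t
  have h2 : t ≠ 1 := by
    rintro rfl
    rw [orderOf_one] at ht2
    omega
  obtain ⟨g, hg⟩ := isConj_iff.1 (Cfsg.Agent.KFacts.ON.OneClass.one_class h1 h2)
  have h3 : g * x * g⁻¹ ∈ centralizer ({on .f} : Set ON) := by
    rw [mem_centralizer_singleton_iff]
    have h4 := mem_centralizer_singleton_iff.1 ht
    rw [← hg]
    calc g * x * g⁻¹ * (g * t * g⁻¹) = g * (x * t) * g⁻¹ := by group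
      _ = g * (t * x) * g⁻¹ := by rw [h4]
      _ = _ := by group
  have h4 := _root_.orderOf_dvd_natCard (⟨_, h3⟩ : centralizer ({on .f} : Set ON))
  rw [Subgroup.orderOf_mk, Cfsg.Agent.KFacts.ON.Cent.card_cent] at h4
  have h5 : orderOf (g * x * g⁻¹) = 31 := by
    rw [← hx]
    exact orderOf_injective (MulAut.conj g).toMonoidHom (MulAut.conj g).injective x
  rw [h5] at h4
  norm_num at h4

theorem cond_two {K : Type*} [Group K] [Finite K] (hK : Nat.card K = 460815505920) : ∃ T : Sylow 2 K,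
    ∀ a j n : ℕ, Nat.card T = 2 ^ (a + j) → 31 ∣ 2 ^ a - 1 → 2 ^ j ∣ 31 - 1 → 0 < n → 31 ∣ 2 ^ n - 1 → n ≤ a →
      (∃ W : Subgroup K, W ≤ T ∧ (∀ w ∈ W, ∀ u ∈ (T : Subgroup K), w * u = u * w) ∧ (∀ w ∈ W, w ^ 2 = 1) ∧
        2 ^ n ≤ Nat.card W ^ (2 ^ j)) → False := by
  have : Fact (Nat.Prime 2) := ⟨Nat.prime_two⟩
  obtain ⟨T⟩ : Nonempty (Sylow 2 K) := inferInstance
  refine ⟨T, fun a j _ hT ha hj _ _ _ _ => ?_⟩
  have h1 : Nat.card T = 2 ^ 9 := by
    rw [Sylow.card_eq_multiplicity, hK, show (460815505920 : ℕ) = 2 ^ 9 * 900030285 by norm_num,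
      Nat.factorization_mul (by norm_num) (by norm_num), Nat.Prime.factorization_pow Nat.prime_two,
      Finsupp.add_apply, Finsupp.single_eq_same,
      Nat.factorization_eq_zero_of_not_dvd (by norm_num : ¬ 2 ∣ 900030285)]
  rw [h1] at hT
  have h2 : 9 = a + j := Nat.pow_right_injective (le_refl 2) hT
  have hj1 : j ≤ 1 := by
    by_contra h5
    have h6 : (2 : ℕ) ^ 2 ∣ 31 - 1 := (pow_dvd_pow 2 (by omega : 2 ≤ j)).trans hj
    norm_num at h6
  have h3 : a = 9 ∨ a = 8 := by omega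
  rcases h3 with rfl | rfl <;> norm_num at ha

/-- **`ON`** -/
theorem noE_on {K : Type*} [Group K] [Finite K] [IsSimpleGroup K] (h : Cfsg.Spor.IsoON K) {p : ℕ} [hf : Fact p.Prime]
    (hp : 5 ≤ p) (hb : Blk p K) (hO : ThO p K) : NoE p K := by
  obtain ⟨e⟩ := h
  have := finite_on
  have hc : Nat.card K = 460815505920 := (Nat.card_congr e.toEquiv).trans card_on
  have hna : ¬ IsMulCommutative K := not_comm_of_card (by rw [hc]; norm_num)
  by_cases hd : p ∣ 460815505920
  swap
  · exact noE_of_not_dvd (by rw [hc]; exact hd)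
  have hpp := hf.out
  have h1 : p ∣ 2 ^ 9 * 3 ^ 4 * 5 * 7 ^ 3 * 11 * 19 * 31 := by norm_num; exact hd
  have h2 : p = 5 ∨ p = 7 ∨ p = 11 ∨ p = 19 ∨ p = 31 := by
    rw [hpp.dvd_mul, hpp.dvd_mul, hpp.dvd_mul, hpp.dvd_mul, hpp.dvd_mul, hpp.dvd_mul] at h1
    have key : ∀ {q : ℕ}, q.Prime → p ∣ q → p = q := fun hq h => (Nat.prime_dvd_prime_iff_eq hpp hq).1 h
    rcases h1 with (((((h1 | h1) | h1) | h1) | h1) | h1) | h1
    · have := key Nat.prime_two (hpp.dvd_of_dvd_pow h1); omega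
    · have := key Nat.prime_three (hpp.dvd_of_dvd_pow h1); omega
    · have := key (by norm_num) h1; omega
    · have := key (by norm_num) (hpp.dvd_of_dvd_pow h1); omega
    · have := key (by norm_num) h1; omega
    · have := key (by norm_num) h1; omega
    · have := key (by norm_num) h1; omega
  have two : ∀ {t : ℕ}, t.Prime → t ∣ 2 → t = 2 := fun ht h => (Nat.prime_dvd_prime_iff_eq ht Nat.prime_two).1 h
  have three : ∀ {t : ℕ}, t.Prime → t ∣ 3 → t = 3 := fun ht h => (Nat.prime_dvd_prime_iff_eq ht Nat.prime_three).1 h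
  have fiv : ∀ {t : ℕ}, t.Prime → t ∣ 5 → t = 5 := fun ht h => (Nat.prime_dvd_prime_iff_eq ht (by norm_num)).1 h
  rcases h2 with rfl | rfl | rfl | rfl | rfl
  · exact NoE.congr e five
  · exact NoE.congr e seven
  · refine noE_of_order hna (by rw [hc]; norm_num) hb hO fun t ht htd => ?_
    have h3 : t ∣ 2 * 5 := htd
    rcases ht.dvd_mul.1 h3 with h4 | h4
    · have := two ht h4
      subst this
      exact cond_order (v := 9) (by rw [hc]; norm_num) (by decide)
    · have := fiv ht h4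
      subst this
      exact cond_order (v := 1) (by rw [hc]; norm_num) (by decide)
  · refine noE_of_order hna (by rw [hc]; norm_num) hb hO fun t ht htd => ?_
    have h3 : t ∣ 2 * 3 ^ 2 := htd
    rcases ht.dvd_mul.1 h3 with h4 | h4
    · have := two ht h4
      subst this
      exact cond_order (v := 9) (by rw [hc]; norm_num) (by decide)
    · have := three ht (ht.dvd_of_dvd_pow h4)
      subst this
      exact cond_order (v := 4) (by rw [hc]; norm_num) (by decide)
  · have hcyc := cyclic_of_card (K := K) (p := 31) (by rw [hc]; norm_num)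
    refine NoE.of_m0 hna hcyc fun x hx hR hY => m0_num hcyc hb hO hx hR hY fun t ht _ htd => ?_
    have h3 : t ∣ 2 * 3 * 5 := htd
    rcases ht.dvd_mul.1 h3 with h4 | h4
    · rcases ht.dvd_mul.1 h4 with h4 | h4
      · have := two ht h4
        subst this
        refine Or.inr ⟨?_, cond_two hc⟩
        rw [Cfsg.Agent.H301.SY.card_centralizer e x]
        exact odd_cent ((orderOf_injective e.toMonoidHom e.injective x).trans hx)
      · have := three ht h4
        subst this
        exact Or.inl (cond_order (v := 4) (by rw [hc]; norm_num) (by decide))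
    · have := fiv ht h4
      subst this
      exact Or.inl (cond_order (v := 1) (by rw [hc]; norm_num) (by decide))

end Cfsg.Agent.H51.SY.ON
end

-- part: H841/SY/Tool
section
/-!
# S3846: simple subgroups of index prime to `p` (helper841)
-/

set_option autoImplicit false

namespace Cfsg.Agent.H841.SY

open Cfsg Subgroup Cfsg.Agent.H459.Rad Cfsg.Agent.H459.Iface Cfsg.Agent.H301.SY

/-- a proper non-abelian simple subgroup of index prime to `p` -/
theorem noE_of_hom {Q K : Type*} [Group Q] [Finite Q] [IsSimpleGroup Q] [Group K] [Finite K] {p : ℕ} [hp : Fact p.Prime]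
    (hQ : ¬ Group.IsSolvable Q) (f : Q →* K) (hf : Function.Injective f) {m : ℕ}
    (hm : Nat.card K = Nat.card Q * m) (hm1 : m ≠ 1) (hpm : ¬ p ∣ m) : NoE p K := by
  have e : Q ≃* f.range := MonoidHom.ofInjective hf
  have hcL : Nat.card f.range = Nat.card Q := (Nat.card_congr e.toEquiv).symm
  have hidx : f.range.index = m := by
    have h1 := f.range.card_mul_index
    rw [hcL, hm] at h1
    exact Nat.eq_of_mul_eq_mul_left Nat.card_pos h1
  obtain ⟨S⟩ : Nonempty (Sylow p f.range) := inferInstance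
  have hS : IsPGroup p ↥((S : Subgroup f.range).map f.range.subtype) := S.isPGroup'.map _
  have hc : ¬ p ∣ ((S : Subgroup f.range).map f.range.subtype).index := by
    rw [← relIndex_mul_index (map_subtype_le (S : Subgroup f.range)), hp.out.dvd_mul, not_or]
    refine ⟨?_, by rw [hidx]; exact hpm⟩
    have h1 : ((S : Subgroup f.range).map f.range.subtype).relIndex f.range = (S : Subgroup f.range).index := by
      rw [relIndex, subgroupOf, comap_map_eq_self_of_injective f.range.subtype_injective]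
    rw [h1]
    exact S.not_dvd_index
  let P : Sylow p K := hS.toSylow hc
  refine NoE.of_sylow (L := f.range) ?_ P ?_ ?_
  · intro h
    apply hm1
    rw [← hidx, h, index_top]
  · show (S : Subgroup f.range).map f.range.subtype ≤ f.range
    exact map_subtype_le _
  · have h1 : solvableRadical f.range = ⊥ := by
      rw [eq_bot_iff]
      intro z hz
      have h2 := map_rad_le (f := e.symm.toMonoidHom) e.symm.surjective hz
      rw [rad_eq_bot_of_simple hQ, mem_bot] at h2
      rw [mem_bot]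
      exact e.symm.injective (h2.trans (map_one e.symm).symm)
    unfold radIn
    rw [h1, Subgroup.map_bot, card_bot]
    intro h
    exact hp.out.one_lt.ne' (Nat.dvd_one.1 h)

/-- a non-abelian simple group is not solvable -/
theorem not_solvable {Q : Type*} [Group Q] [Finite Q] [IsSimpleGroup Q] (hp : ¬ (Nat.card Q).Prime) : ¬ Group.IsSolvable Q := by
  intro h
  have hc : Nontrivial Q := inferInstance
  by_cases hcom : ∀ a b : Q, a * b = b * a
  · apply hp
    let _ : CommGroup Q := { (inferInstance : Group Q) with mul_comm := hcom }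
    exact IsSimpleGroup.prime_card
  · exact hcom fun a b => IsSimpleGroup.comm_iff_isSolvable.2 h a b

end Cfsg.Agent.H841.SY
end

-- part: H841/SY/Fi24
section
/-!
# S3846: the row `Fi24'` (helper841)

`He` (for `p = 5, 7, 17`) and `Fi23` (for `p = 11, 13, 23`) are simple subgroups of index prime to `p`; `p = 29` by the
orders of 2 and 7 modulo 29.
-/

set_option autoImplicit false

namespace Cfsg.Agent.H841.SY

open Cfsg Subgroup Cfsg.Agent.H459.Rad Cfsg.Agent.H459.Iface Cfsg.Agent.H301.SY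
open Cfsg.Agent.Fischer.Fi24Class (exists_fi23_hom)

theorem card_fi24' : Nat.card Spor.Fi24' = 1255205709190661721292800 := Cfsg.Agent.S1698.result.2

/-- `He ≤ Fi24'` -/
theorem exists_he : ∃ f : Spor.He →* Spor.Fi24', Function.Injective f := by
  have h95 := Cfsg.Agent.S1695.result
  obtain ⟨ψ, hψ⟩ := Cfsg.Agent.H868.HeFi24.exists_embedding
  have hle : ∀ x, ψ x ∈ commutator Spor.Fi24 := by
    intro x
    refine Fischer.Fi24Class.range_le_commutator (Fischer.Fi24Class.perfect_of_simple h95.1 ?_) ψ ⟨x, rfl⟩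
    rw [h95.2]
    intro hp
    exact absurd ((Nat.prime_dvd_prime_iff_eq Nat.prime_two hp).1 (by norm_num)) (by norm_num)
  refine ⟨ψ.codRestrict (commutator Spor.Fi24) hle, ?_⟩
  intro a b hab
  exact hψ (congrArg Subtype.val hab)

/-- `Fi23 ≤ Fi24'` -/
theorem exists_fi23 : ∃ f : Spor.Fi23 →* Spor.Fi24', Function.Injective f := by
  have h97 := Cfsg.Agent.S1697.result
  obtain ⟨-, hst, -⟩ := SporRec.Fi24Index.index_and_suborbits
  obtain ⟨φ, hφ⟩ := exists_fi23_hom (Fischer.Fi24Spider.spider_rel hst)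
  have hne : Nat.card (commutator Spor.Fi24) ≠ 1 := by
    have h98 : Nat.card (commutator Spor.Fi24) = _ := Cfsg.Agent.S1698.result.2
    rw [h98]; norm_num
  have hφ1 : Function.Injective φ := by
    apply Fischer.Fi24Class.injective_of_simple h97.1
    refine ⟨Cfsg.Agent.SporRec.Fi23Rel.gen .a, ?_⟩
    rw [hφ]
    intro h
    apply Fischer.Fi24Class.a_ne_l hne
    have h2 : Fischer.Fi24Rep.gen .a * Fischer.Fi24Rep.gen .l = 1 := h
    rw [mul_eq_one_iff_eq_inv] at h2
    rw [show (Fischer.Fi24Rep.gen .l)⁻¹ = Fischer.Fi24Rep.gen .l from Fischer.Fi24Class.gen_inv .l] at h2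
    exact h2
  have hle : ∀ x, φ x ∈ commutator Spor.Fi24 := by
    intro x
    refine Fischer.Fi24Class.range_le_commutator (Fischer.Fi24Class.perfect_of_simple h97.1 ?_) φ ⟨x, rfl⟩
    rw [h97.2]
    intro hp
    exact absurd ((Nat.prime_dvd_prime_iff_eq Nat.prime_two hp).1 (by norm_num)) (by norm_num)
  refine ⟨φ.codRestrict (commutator Spor.Fi24) hle, ?_⟩
  intro a b hab
  exact hφ1 (congrArg Subtype.val hab)

/-- the prime divisors -/
theorem prime_cases {p : ℕ} (hp : p.Prime) (h5 : 5 ≤ p) (h : p ∣ 1255205709190661721292800) :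
    p = 5 ∨ p = 7 ∨ p = 11 ∨ p = 13 ∨ p = 17 ∨ p = 23 ∨ p = 29 := by
  have e : (1255205709190661721292800 : ℕ) = 2 ^ 21 * 3 ^ 16 * 5 ^ 2 * 7 ^ 3 * 11 * 13 * 17 * 23 * 29 := by norm_num
  rw [e] at h
  have key : ∀ q : ℕ, q.Prime → p ∣ q → p = q := fun q hq hd => (Nat.prime_dvd_prime_iff_eq hp hq).1 hd
  have keyp : ∀ q n : ℕ, q.Prime → p ∣ q ^ n → p = q := fun q n hq hd => key q hq (hp.dvd_of_dvd_pow hd)
  rcases hp.dvd_mul.1 h with h | h
  swap
  · exact Or.inr (Or.inr (Or.inr (Or.inr (Or.inr (Or.inr (key _ (by norm_num) h))))))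
  rcases hp.dvd_mul.1 h with h | h
  swap
  · exact Or.inr (Or.inr (Or.inr (Or.inr (Or.inr (Or.inl (key _ (by norm_num) h))))))
  rcases hp.dvd_mul.1 h with h | h
  swap
  · exact Or.inr (Or.inr (Or.inr (Or.inr (Or.inl (key _ (by norm_num) h)))))
  rcases hp.dvd_mul.1 h with h | h
  swap
  · exact Or.inr (Or.inr (Or.inr (Or.inl (key _ (by norm_num) h))))
  rcases hp.dvd_mul.1 h with h | h
  swap
  · exact Or.inr (Or.inr (Or.inl (key _ (by norm_num) h)))
  rcases hp.dvd_mul.1 h with h | h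
  swap
  · exact Or.inr (Or.inl (keyp _ _ (by norm_num) h))
  rcases hp.dvd_mul.1 h with h | h
  swap
  · exact Or.inl (keyp _ _ (by norm_num) h)
  exfalso
  rcases hp.dvd_mul.1 h with h | h
  · have := keyp _ _ Nat.prime_two h
    omega
  · have := keyp _ _ Nat.prime_three h
    omega

/-- `p = 29` -/
theorem m0_29 {K : Type*} [Group K] [Finite K] [Fact (Nat.Prime 29)] (hK : Nat.card K = 1255205709190661721292800)
    (hb : Blk 29 K) (hO : ThO 29 K) {x : K} (hx : orderOf x = 29) (hR : RE x) (hY : YE 29 x) : M0 x := by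
  have hcyc : ∀ P : Sylow 29 K, IsCyclic (P : Subgroup K) := cyclic_of_card (by rw [hK]; norm_num)
  refine m0_num hcyc hb hO hx hR hY fun t ht _ htd => Or.inl ?_
  intro i hi hd
  rw [hK] at hd
  have htt : t = 2 ∨ t = 7 := by
    have h28 : t ∣ 2 ^ 2 * 7 := by simpa using htd
    rcases ht.dvd_mul.1 h28 with h | h
    · exact Or.inl ((Nat.prime_dvd_prime_iff_eq ht Nat.prime_two).1 (ht.dvd_of_dvd_pow h))
    · exact Or.inr ((Nat.prime_dvd_prime_iff_eq ht (by norm_num)).1 h)
  rcases htt with rfl | rfl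
  · have hi2 : i ≤ 21 := by
      by_contra hc
      have h1 : 2 ^ 22 ∣ 1255205709190661721292800 := (pow_dvd_pow 2 (by omega)).trans hd
      norm_num at h1
    intro hm
    unfold Nat.ModEq at hm
    interval_cases i <;> revert hm <;> decide
  · have hi2 : i ≤ 3 := by
      by_contra hc
      have h1 : 7 ^ 4 ∣ 1255205709190661721292800 := (pow_dvd_pow 7 (by omega)).trans hd
      norm_num at h1
    intro hm
    unfold Nat.ModEq at hm
    interval_cases i <;> revert hm <;> decide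

/-- **the row `Fi24'`** -/
theorem noE_fi24 {K : Type*} [Group K] [Finite K] [IsSimpleGroup K] (h : Cfsg.Spor.IsoFi24' K) {p : ℕ} [Fact p.Prime]
    (hp : 5 ≤ p) (hb : Blk p K) (hO : ThO p K) : NoE p K := by
  obtain ⟨e⟩ := h
  have hfin : Finite Spor.Fi24' := Finite.of_equiv K e.toEquiv
  have hK : Nat.card K = 1255205709190661721292800 := (Nat.card_congr e.toEquiv).trans card_fi24'
  have hnp : ∀ q : ℕ, q.Prime → q = 1255205709190661721292800 → False := by
    rintro q hq rfl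
    exact absurd ((Nat.prime_dvd_prime_iff_eq Nat.prime_two hq).1 (by norm_num)) (by norm_num)
  by_cases hpd : p ∣ Nat.card K
  swap
  · intro x hx _ _
    exact hpd (hx ▸ _root_.orderOf_dvd_natCard x)
  have h95 := Cfsg.Agent.S1695.result
  have h97 := Cfsg.Agent.S1697.result
  have hHe : IsSimpleGroup Spor.He := h95.1
  have h23 : IsSimpleGroup Spor.Fi23 := h97.1
  have cHe : Nat.card Spor.He = 4030387200 := h95.2
  have c23 : Nat.card Spor.Fi23 = 4089470473293004800 := h97.2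
  have fHe : Finite Spor.He := Nat.finite_of_card_ne_zero (by rw [cHe]; norm_num)
  have f23 : Finite Spor.Fi23 := Nat.finite_of_card_ne_zero (by rw [c23]; norm_num)
  have sHe : ¬ Group.IsSolvable Spor.He := not_solvable (by
    rw [cHe]
    intro hp
    exact absurd ((Nat.prime_dvd_prime_iff_eq Nat.prime_two hp).1 (by norm_num)) (by norm_num))
  have s23 : ¬ Group.IsSolvable Spor.Fi23 := not_solvable (by
    rw [c23]
    intro hp
    exact absurd ((Nat.prime_dvd_prime_iff_eq Nat.prime_two hp).1 (by norm_num)) (by norm_num))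
  have caseHe : ¬ p ∣ 311435513985024 → NoE p K := by
    intro hm
    obtain ⟨f, hf⟩ := exists_he
    exact NoE.congr e (noE_of_hom sHe f hf (m := 311435513985024) (by rw [card_fi24', cHe]) (by norm_num) hm)
  have case23 : ¬ p ∣ 306936 → NoE p K := by
    intro hm
    obtain ⟨f, hf⟩ := exists_fi23
    exact NoE.congr e (noE_of_hom s23 f hf (m := 306936) (by rw [card_fi24', c23]) (by norm_num) hm)
  rcases prime_cases (Fact.out : p.Prime) hp (hK ▸ hpd) with rfl | rfl | rfl | rfl | rfl | rfl | rfl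
  · exact caseHe (by norm_num)
  · exact caseHe (by norm_num)
  · exact case23 (by norm_num)
  · exact case23 (by norm_num)
  · exact case23 (by norm_num)
  · exact case23 (by norm_num)
  · refine NoE.of_m0 ?_ (cyclic_of_card (by rw [hK]; norm_num)) fun x hx hR hY => m0_29 hK hb hO hx hR hY
    intro hcom
    have hcc : ∀ a b : K, a * b = b * a := fun a b => hcom.is_comm.comm a b
    let _ : CommGroup K := { (inferInstance : Group K) with mul_comm := hcc }
    exact hnp _ (IsSimpleGroup.prime_card (α := K)) hK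

end Cfsg.Agent.H841.SY
end

-- part: H301/SY/Tv
section
/-!
# S3846: transvections (helper301)

`Tv p x` : there are no commuting `w`, `w₁` of order `p`, generating a group of order `p ^ 2`, with `x` fixing `w` and
mapping `w₁` to `w₁ w ^ j`, and an element `q` fixing `w₁` and mapping `w` to `w w₁ ^ k`, `p ∤ j k`.

* `Tv.of_ye` : `RE x` and `YE p x` imply `Tv p x` (`p ≥ 5`): some `r`-element `y` of `⟨x, q⟩` acts as `diag(t, t⁻¹)`, `t ^ 2 ≠ 1`;
  then `⟨x, y⟩` is solvable, as `x ∈ Rad C(w)`, but `⟨x, n y n⁻¹⟩` is not;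
* `Centre.false_of_mem_tv`, `Centre.noE_of_sylow`.
-/

set_option autoImplicit false
set_option linter.unusedSectionVars false

namespace Cfsg.Agent.H301.SY

open Cfsg Subgroup Cfsg.Agent.H459.Rad Cfsg.Agent.H459.Iface Cfsg.Agent.H839.Rad
open Cfsg.Agent.SignalizersComponents.ComponentExists
open Matrix (SpecialLinearGroup)
open ClassicalGeometry.SplitTorus (up lo dg dgHom mul00 mul01 mul10 mul11 inv00 inv01 inv10 inv11 ext2 up_add up_zero
  mem_of_up_lo)

variable {K : Type*} [Group K] {p : ℕ}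

/-- no configuration of transvections -/
def Tv (p : ℕ) (x : K) : Prop :=
  ∀ (w w₁ q : K) (j k : ℤ), orderOf w = p → orderOf w₁ = p → w * w₁ = w₁ * w → w₁ ∉ zpowers w → ¬ (p : ℤ) ∣ j →
    ¬ (p : ℤ) ∣ k → x * w = w * x → x * w₁ * x⁻¹ = w₁ * w ^ j → q * w₁ = w₁ * q → q * w * q⁻¹ = w * w₁ ^ k → False

theorem Tv.conj {x : K} (h : Tv p x) (g : K) : Tv p (g * x * g⁻¹) := by
  intro w w₁ q j k h1 h2 h3 h4 h5 h6 h7 h8 h9 h10
  have o : ∀ a : K, orderOf (g⁻¹ * a * g) = orderOf a := fun a => by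
    have e : g⁻¹ * a * g = MulAut.conj g⁻¹ a := by rw [MulAut.conj_apply, inv_inv]
    rw [e, MulEquiv.orderOf_eq]
  have ez : ∀ (a : K) (i : ℤ), (g⁻¹ * a * g) ^ i = g⁻¹ * a ^ i * g := fun a i => by
    have := conj_zpow (a := g⁻¹) (b := a) (i := i)
    rwa [inv_inv] at this
  refine h (g⁻¹ * w * g) (g⁻¹ * w₁ * g) (g⁻¹ * q * g) j k (by rw [o, h1]) (by rw [o, h2]) ?_ ?_ h5 h6 ?_ ?_ ?_ ?_
  · calc g⁻¹ * w * g * (g⁻¹ * w₁ * g) = g⁻¹ * (w * w₁) * g := by group
      _ = g⁻¹ * (w₁ * w) * g := by rw [h3]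
      _ = _ := by group
  · intro hc
    obtain ⟨i, hi⟩ := mem_zpowers_iff.1 hc
    apply h4
    refine mem_zpowers_iff.2 ⟨i, ?_⟩
    rw [ez] at hi
    calc w ^ i = g * (g⁻¹ * w ^ i * g) * g⁻¹ := by group
      _ = g * (g⁻¹ * w₁ * g) * g⁻¹ := by rw [hi]
      _ = w₁ := by group
  · calc x * (g⁻¹ * w * g) = g⁻¹ * (g * x * g⁻¹ * w) * g := by group
      _ = g⁻¹ * (w * (g * x * g⁻¹)) * g := by rw [h7]
      _ = _ := by group
  · calc x * (g⁻¹ * w₁ * g) * x⁻¹ = g⁻¹ * (g * x * g⁻¹ * w₁ * (g * x * g⁻¹)⁻¹) * g := by group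
      _ = g⁻¹ * (w₁ * w ^ j) * g := by rw [h8]
      _ = g⁻¹ * w₁ * g * (g⁻¹ * w ^ j * g) := by group
      _ = _ := by rw [ez]
  · calc g⁻¹ * q * g * (g⁻¹ * w₁ * g) = g⁻¹ * (q * w₁) * g := by group
      _ = g⁻¹ * (w₁ * q) * g := by rw [h9]
      _ = _ := by group
  · calc g⁻¹ * q * g * (g⁻¹ * w * g) * (g⁻¹ * q * g)⁻¹ = g⁻¹ * (q * w * q⁻¹) * g := by group
      _ = g⁻¹ * (w * w₁ ^ k) * g := by rw [h10]
      _ = g⁻¹ * w * g * (g⁻¹ * w₁ ^ k * g) := by group
      _ = _ := by rw [ez]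

/-- a unit of prime power order, with `t ^ 2 ≠ 1` -/
theorem exists_unit [hp : Fact p.Prime] (hp5 : 5 ≤ p) :
    ∃ (r n : ℕ) (t : (ZMod p)ˣ), r.Prime ∧ r ≠ p ∧ t ^ r ^ n = 1 ∧ t ^ 2 ≠ 1 := by
  obtain ⟨g, hg⟩ := IsCyclic.exists_ofOrder_eq_natCard (α := (ZMod p)ˣ)
  have hc : Nat.card (ZMod p)ˣ = p - 1 := by rw [Nat.card_eq_fintype_card, ZMod.card_units]
  rw [hc] at hg
  have key : ∀ d : ℕ, d ∣ p - 1 → 2 < d → (g ^ ((p - 1) / d)) ^ d = 1 ∧ (g ^ ((p - 1) / d)) ^ 2 ≠ 1 := by
    intro d hd h2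
    have h3 : orderOf (g ^ ((p - 1) / d)) = d := by
      have h5 : 0 < d := by omega
      have h4 : 0 < (p - 1) / d := Nat.div_pos (Nat.le_of_dvd (by omega) hd) h5
      rw [orderOf_pow_of_dvd h4.ne' (by rw [hg]; exact Nat.div_dvd_of_dvd hd), hg,
        Nat.div_div_self hd (by omega)]
    refine ⟨by have := pow_orderOf_eq_one (g ^ ((p - 1) / d)); rwa [h3] at this, fun h => ?_⟩
    have h6 := orderOf_dvd_of_pow_eq_one h
    rw [h3] at h6
    have := Nat.le_of_dvd (by norm_num) h6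
    omega
  by_cases h4 : 4 ∣ p - 1
  · obtain ⟨k1, k2⟩ := key 4 h4 (by norm_num)
    exact ⟨2, 2, _, Nat.prime_two, by omega, by simpa only [_root_.Nat.reducePow] using k1, k2⟩
  · -- an odd prime divisor
    obtain ⟨r, hr, hr2, hrd⟩ : ∃ r : ℕ, r.Prime ∧ r ≠ 2 ∧ r ∣ p - 1 := by
      by_contra hcon
      push Not at hcon
      have h5 := Nat.eq_prime_pow_of_unique_prime_dvd (n := p - 1) (p := 2) (by omega) (by
        intro d hd hdd
        by_contra hne
        exact hcon d hd hne hdd)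
      rw [h5] at h4
      have h6 : (p - 1).primeFactorsList.length < 2 := by
        by_contra h7
        exact h4 (pow_dvd_pow 2 (not_lt.1 h7))
      have h7 : 2 ^ (p - 1).primeFactorsList.length ≤ 2 ^ 1 := Nat.pow_le_pow_right (by norm_num) (by omega)
      omega
    have h2 := hr.two_le
    obtain ⟨k1, k2⟩ := key r hrd (by omega)
    refine ⟨r, 1, _, hr, ?_, by simpa only [_root_.pow_one] using k1, k2⟩
    intro h3
    have := Nat.le_of_dvd (by omega) hrd
    omega

section

variable [hp : Fact p.Prime] {a b : K}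

/-- every matrix is realised -/
theorem exists_act (ha : orderOf a = p) (hb : orderOf b = p) (hab : a * b = b * a) {u v : K} {m n : ℤ}
    (hm : ¬ (p : ℤ) ∣ m) (hn : ¬ (p : ℤ) ∣ n) (hua : u * a = a * u)
    (hub : u * b * u⁻¹ = b * a ^ m) (hvb : v * b = b * v) (hva : v * a * v⁻¹ = a * b ^ n)
    (A : _root_.Matrix.SpecialLinearGroup (Fin 2) (ZMod p)) : ∃ h : K, Act a b h A := by
  have hap : a ^ p = 1 := ha ▸ pow_orderOf_eq_one a
  have hbp : b ^ p = 1 := hb ▸ pow_orderOf_eq_one b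
  let SL := _root_.Matrix.SpecialLinearGroup (Fin 2) (ZMod p)
  let U : SL := up (m : ZMod p)
  let V : SL := lo (n : ZMod p)
  have hU : Act a b u U := by
    constructor
    · show u * a * u⁻¹ = pz a (1 : ZMod p) * pz b (0 : ZMod p)
      rw [hua, pz_one, pz_zero]; group
    · show u * b * u⁻¹ = pz a (m : ZMod p) * pz b (1 : ZMod p)
      rw [hub, pz_one, pz_intCast hap]
      exact ((show Commute a b from hab).zpow_left m).eq.symm
  have hV : Act a b v V := by
    constructor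
    · show v * a * v⁻¹ = pz a (1 : ZMod p) * pz b (n : ZMod p)
      rw [hva, pz_one, pz_intCast hbp]
    · show v * b * v⁻¹ = pz a (0 : ZMod p) * pz b (1 : ZMod p)
      rw [hvb, pz_one, pz_zero]; group
  let R : Subgroup SL :=
    { carrier := {A | ∃ h : K, Act a b h A}
      one_mem' := ⟨1, act_one⟩
      mul_mem' := fun {A B} hA hB => by
        obtain ⟨h, hh⟩ := hA
        obtain ⟨k, hk⟩ := hB
        exact ⟨h * k, hh.mul hap hbp hab hk⟩
      inv_mem' := fun {A} hA => by
        obtain ⟨h, hh⟩ := hA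
        exact ⟨h⁻¹, hh.inv hap hbp hab⟩ }
  have hm0 : (m : ZMod p) ≠ 0 := by rwa [Ne, ZMod.intCast_zmod_eq_zero_iff_dvd]
  have hn0 : (n : ZMod p) ≠ 0 := by rwa [Ne, ZMod.intCast_zmod_eq_zero_iff_dvd]
  have hUm : U ∈ R := ⟨u, hU⟩
  have hVm : V ∈ R := ⟨v, hV⟩
  refine (mem_of_up_lo R ?_ ?_ A : A ∈ R)
  · intro c
    have h2 : ∀ k : ℕ, U ^ k = up ((k : ZMod p) * m) := by
      intro k
      induction k with
      | zero => rw [pow_zero, Nat.cast_zero, zero_mul, up_zero]
      | succ k ih => rw [pow_succ, ih, Nat.cast_succ, add_mul, one_mul, up_add]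
    have h3 := h2 (c * (m : ZMod p)⁻¹).val
    rw [ZMod.natCast_zmod_val, inv_mul_cancel_right₀ hm0] at h3
    rw [← h3]
    exact pow_mem hUm _
  · intro c
    have h2 : ∀ k : ℕ, V ^ k = lo ((k : ZMod p) * n) := by
      intro k
      induction k with
      | zero =>
        rw [pow_zero, Nat.cast_zero, zero_mul]
        exact lo_zero'.symm
      | succ k ih =>
        rw [pow_succ, ih, Nat.cast_succ, add_mul, one_mul]
        exact (lo_add' _ _).symm
    have h3 := h2 (c * (n : ZMod p)⁻¹).val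
    rw [ZMod.natCast_zmod_val, inv_mul_cancel_right₀ hn0] at h3
    rw [← h3]
    exact pow_mem hVm _

theorem Act.pow {h : K} {M : _root_.Matrix.SpecialLinearGroup (Fin 2) (ZMod p)} (ha : a ^ p = 1) (hb : b ^ p = 1)
    (hab : a * b = b * a) (H : Act a b h M) (n : ℕ) : Act a b (h ^ n) (M ^ n) := by
  induction n with
  | zero => rw [pow_zero, pow_zero]; exact act_one
  | succ n ih => rw [pow_succ, pow_succ]; exact ih.mul ha hb hab H

end

/-- `⟨x, y⟩` is solvable if `y` normalises `⟨w⟩` and `x ∈ Rad C(w)` -/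
theorem isSolvable_of_rad [Finite K] {x y w : K} (hx : x ∈ radIn (centralizer ({w} : Set K)))
    (hy : y * w * y⁻¹ ∈ zpowers w) : Group.IsSolvable ↥(_root_.Subgroup.closure ({x, y} : Set K)) := by
  set C := centralizer ({w} : Set K) with hC
  have h1 : C.map (MulAut.conj y).toMonoidHom = C := by
    -- `C ≤ y C y⁻¹`
    have h2 : C ≤ C.map (MulAut.conj y).toMonoidHom := by
      intro c hc
      refine ⟨y⁻¹ * c * y, ?_, ?_⟩
      · rw [SetLike.mem_coe, mem_centralizer_singleton_iff] at *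
        obtain ⟨k, hk⟩ := mem_zpowers_iff.1 hy
        have h3 : Commute c (y * w * y⁻¹) := by
          rw [← hk]
          exact (show Commute c w from hc).zpow_right k
        calc y⁻¹ * c * y * w = y⁻¹ * (c * (y * w * y⁻¹)) * y := by group
          _ = y⁻¹ * (y * w * y⁻¹ * c) * y := by rw [h3.eq]
          _ = w * (y⁻¹ * c * y) := by group
      · change y * (y⁻¹ * c * y) * y⁻¹ = c
        group
    exact (Subgroup.eq_of_le_of_card_ge h2 (le_of_eq (Subgroup.card_map_of_injective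
      (MulAut.conj y).injective))).symm
  have h2 : (radIn C).map (MulAut.conj y).toMonoidHom = radIn C := by
    rw [← radIn_conj, h1]
  rw [Set.pair_comm]
  refine isSolvable_pair (A := radIn C) (radIn_solvable C) ?_ hx
  intro g hg
  rw [← h2]
  exact ⟨g, hg, rfl⟩

theorem conj_matrix {F : Type*} [Field F] (t : Fˣ) :
    (lo (-1) * dg t * (lo (-1))⁻¹ : _root_.Matrix.SpecialLinearGroup (Fin 2) F) 1 0 = ((t⁻¹ : Fˣ) : F) - (t : F) := by
  rw [mul10, mul10, mul11, inv00, inv10]
  simp only [lo, dg, _root_.Fin.isValue, _root_.Matrix.of_apply, _root_.Matrix.cons_val', _root_.Matrix.cons_val_zero, _root_.Matrix.cons_val_fin_one, _root_.Matrix.cons_val_one, _root_.Units.val_inv_eq_inv_val, _root_.neg_mul, _root_.one_mul, _root_.MulZeroClass.mul_zero, _root_.add_zero, _root_.mul_one, _root_.zero_add, _root_.neg_neg]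
  ring

theorem dg_ten {F : Type*} [Field F] (t : Fˣ) : (dg t : _root_.Matrix.SpecialLinearGroup (Fin 2) F) 1 0 = 0 := by
  simp [dg]

theorem dg_pow {F : Type*} [Field F] (t : Fˣ) (m : ℕ) : (dg t) ^ m = (dg (t ^ m) : _root_.Matrix.SpecialLinearGroup (Fin 2) F) :=
  (map_pow (dgHom F) t m).symm

/-- a transvection and an element which moves its centre -/
theorem not_solvable_of_act [hp : Fact p.Prime] (hp5 : 5 ≤ p) {w w₁ x z : K} {j : ℤ} (hw : orderOf w = p)
    (hw₁ : orderOf w₁ = p) (hww : w * w₁ = w₁ * w) (hne : w₁ ∉ zpowers w) (hj : ¬ (p : ℤ) ∣ j)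
    (hxw : x * w = w * x) (hxw₁ : x * w₁ * x⁻¹ = w₁ * w ^ j) {M : _root_.Matrix.SpecialLinearGroup (Fin 2) (ZMod p)}
    (hzM : Act w w₁ z M) (hM10 : M 1 0 ≠ 0) : ¬ Group.IsSolvable ↥(_root_.Subgroup.closure ({x, z} : Set K)) := by
  intro hzs
  have hwp : w ^ p = 1 := hw ▸ pow_orderOf_eq_one w
  have hw₁p : w₁ ^ p = 1 := hw₁ ▸ pow_orderOf_eq_one w₁
  have cww : Commute w w₁ := hww
  obtain ⟨v, hv⟩ : ∃ v, v = z * w * z⁻¹ := ⟨_, rfl⟩
  obtain ⟨e, he⟩ : ∃ e, e = M 1 0 := ⟨_, rfl⟩
  have hvM : v = pz w (M 0 0) * pz w₁ e := by rw [hv, he]; exact hzM.1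
  have hzb : z⁻¹ * w * z = pz w (M 1 1) * pz w₁ (-e) := by
    have h1 := (hzM.inv hwp hw₁p hww).1
    rw [inv00, inv10, inv_inv, ← he] at h1
    exact h1
  rw [← he] at hM10
  have hval : ∀ e : ZMod p, e ≠ 0 → ¬ (p : ℤ) ∣ (e.val : ℤ) := by
    intro e he h1
    apply he
    have h2 : p ∣ e.val := by exact_mod_cast h1
    exact (ZMod.val_eq_zero e).1 (Nat.eq_zero_of_dvd_of_lt h2 (ZMod.val_lt e))
  have hmul : ∀ {i i' : ℤ}, ¬ (p : ℤ) ∣ i → ¬ (p : ℤ) ∣ i' → ¬ (p : ℤ) ∣ i * i' := by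
    intro i i' h1 h2 h3
    rcases (Nat.prime_iff_prime_int.1 hp.out).dvd_or_dvd h3 with h | h
    · exact h1 h
    · exact h2 h
  -- the action of `x` on `⟨w, w₁⟩`
  have hxact : ∀ (s e : ZMod p), x * (pz w s * pz w₁ e) * x⁻¹ = pz w s * pz w₁ e * w ^ (j * (e.val : ℤ)) := by
    intro s e
    have h1 : x * (pz w s * pz w₁ e) * x⁻¹ = (x * w * x⁻¹) ^ s.val * (x * w₁ * x⁻¹) ^ e.val := by
      rw [conj_pow, conj_pow]
      unfold pz
      group
    have h2 : x * w * x⁻¹ = w := by rw [hxw, mul_inv_cancel_right]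
    have c2 : Commute w₁ (w ^ j) := (cww.zpow_left j).symm
    rw [h1, h2, hxw₁, c2.mul_pow, mul_assoc, ← zpow_natCast (w ^ j), ← zpow_mul]
    rfl
  have o1 : orderOf v = p := by rw [hv, ← MulAut.conj_apply, MulEquiv.orderOf_eq, hw]
  have o2 : w * v = v * w := by
    rw [hvM]
    exact (((Commute.refl w).pow_right _).mul_right (cww.pow_right _)).eq
  have o3 : v ∉ zpowers w := by
    rw [hvM]
    intro h1
    apply hne
    have h2 : w₁ ^ (e.val : ℤ) ∈ zpowers w := by
      have h3 := mul_mem (inv_mem (pow_mem (mem_zpowers w) (M 0 0).val)) h1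
      rw [zpow_natCast]
      have h4 : (w ^ (M 0 0).val)⁻¹ * (pz w (M 0 0) * pz w₁ e) = w₁ ^ e.val := by
        unfold pz
        rw [inv_mul_cancel_left]
      rwa [h4] at h3
    exact mem_of_zpow hp.out hw₁ (hval _ hM10) h2
  have o4 : x * v * x⁻¹ = v * w ^ (j * (e.val : ℤ)) := by
    rw [hvM]
    exact hxact _ _
  have o5 : z * x * z⁻¹ * v = v * (z * x * z⁻¹) := by
    rw [hv]
    have e1 : z * x * z⁻¹ * (z * w * z⁻¹) = z * (x * w) * z⁻¹ := by group
    have e2 : z * w * z⁻¹ * (z * x * z⁻¹) = z * (w * x) * z⁻¹ := by group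
    rw [e1, e2, hxw]
  have o6 : z * x * z⁻¹ * w * (z * x * z⁻¹)⁻¹ = w * v ^ (j * ((-e).val : ℤ)) := by
    have e1 : z * x * z⁻¹ * w * (z * x * z⁻¹)⁻¹ = z * (x * (z⁻¹ * w * z) * x⁻¹) * z⁻¹ := by group
    rw [e1, hzb, hxact, ← hzb, hv, conj_zpow]
    group
  refine not_solvable_closure (p := p) hp5 hw o1 o2 o3 (hmul hj (hval _ hM10)) (hmul hj (hval _ (neg_ne_zero.2 hM10)))
    hxw o4 o5 o6 ?_
  -- both lie in `⟨x, z⟩`
  refine isSolvable_of_le ?_ hzs
  have hx' : x ∈ _root_.Subgroup.closure ({x, z} : Set K) := _root_.Subgroup.subset_closure (by simp)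
  have hz' : z ∈ _root_.Subgroup.closure ({x, z} : Set K) := _root_.Subgroup.subset_closure (by simp)
  rw [closure_le]
  intro a ha
  rcases ha with ha | ha
  · rw [ha]; exact hx'
  · rw [Set.mem_singleton_iff.1 ha]
    exact mul_mem (mul_mem hz' hx') (inv_mem hz')

theorem act_dg_pow [hp : Fact p.Prime] {a b h : K} {t : (ZMod p)ˣ} {m : ℕ} (ha : a ^ p = 1) (hb : b ^ p = 1)
    (hab : a * b = b * a) (hm : t ^ m = t) (hh : Act (p := p) a b h (dg t)) : Act (p := p) a b (h ^ m) (dg t) := by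
  have h2 : (dg t : _root_.Matrix.SpecialLinearGroup (Fin 2) (ZMod p)) ^ m = dg t := by
    rw [dg_pow, hm]
  rw [← h2]
  exact Act.pow ha hb hab hh m

/-- **`Tv` from `YE`** -/
theorem Tv.of_ye [Finite K] [hp : Fact p.Prime] (hp5 : 5 ≤ p) (hZ : center K = ⊥) {x : K} (hR : RE x) (hY : YE p x) :
    Tv p x := by
  intro w w₁ q j k hw hw₁ hww hne hj hk hxw hxw₁ hqw₁ hqw
  have hwp : w ^ p = 1 := hw ▸ pow_orderOf_eq_one w
  have hw₁p : w₁ ^ p = 1 := hw₁ ▸ pow_orderOf_eq_one w₁
  have hC : centralizer ({w} : Set K) ≠ ⊤ := by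
    intro h1
    have h2 : w ∈ center K := by
      rw [mem_center_iff]
      intro g
      exact mem_centralizer_singleton_iff.1 (h1 ▸ mem_top g)
    rw [hZ, mem_bot] at h2
    rw [h2, orderOf_one] at hw
    exact hp.out.one_lt.ne hw
  have hxr : x ∈ radIn (centralizer ({w} : Set K)) := hR _ hC (mem_centralizer_singleton_iff.2 hxw)
  obtain ⟨r, n, t, hr, hrp, ht, ht2⟩ := exists_unit (p := p) hp5
  obtain ⟨h, hh⟩ := exists_act hw hw₁ hww hj hk hxw hxw₁ hqw₁ hqw (dg t)
  obtain ⟨m, hm, l, hl⟩ := exists_part hr h n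
  have htm : t ^ m = t := by
    have h4 : m ≡ 1 [MOD orderOf t] := hm.of_dvd (orderOf_dvd_of_pow_eq_one ht)
    have h5 := pow_eq_pow_iff_modEq.2 h4
    rw [h5, pow_one]
  have hyt : Act (p := p) w w₁ (h ^ m) (dg t) := act_dg_pow hwp hw₁p hww htm hh
  have hys : Group.IsSolvable ↥(_root_.Subgroup.closure ({x, h ^ m} : Set K)) := by
    refine isSolvable_of_rad hxr ?_
    rw [hyt.1, dg_ten, pz_zero, mul_one]
    exact pow_mem (mem_zpowers w) _
  obtain ⟨c, hc⟩ := exists_act hw hw₁ hww hj hk hxw hxw₁ hqw₁ hqw (lo (-1))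
  have hzs := hY r hr hrp (h ^ m) ⟨l, hl⟩ hys c
  have hzM : Act (p := p) w w₁ (c * h ^ m * c⁻¹) (lo (-1) * dg t * (lo (-1))⁻¹) :=
    (hc.mul hwp hw₁p hww hyt).mul hwp hw₁p hww (hc.inv hwp hw₁p hww)
  refine not_solvable_of_act hp5 hw hw₁ hww hne hj hxw hxw₁ hzM ?_ hzs
  rw [conj_matrix, sub_ne_zero]
  intro h1
  apply ht2
  have h2 : t⁻¹ = t := Units.ext h1
  rw [pow_two]
  nth_rewrite 1 [← h2]
  exact inv_mul_cancel t

/-- from `RE` to `RC` -/
theorem RC.of_re [Finite K] [IsSimpleGroup K] {x : K} (hR : RE x) :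
    RC (MulAut.conj x) := by
  intro M hM hMx m hm
  have hMx' : ∀ g ∈ M, x * g * x⁻¹ ∈ M := hMx
  set H : Subgroup K := M ⊔ zpowers x with hH
  have hxH : x ∈ H := mem_sup_right (mem_zpowers x)
  have hHn : H ≤ normalizer (M : Set K) := by
    refine sup_le le_normalizer ?_
    rw [zpowers_le]
    exact mem_norm hMx'
  by_cases hHt : H = ⊤
  · have hMn : M.Normal := by
      rw [hHt] at hHn
      exact Subgroup.normalizer_eq_top_iff.1 (top_le_iff.1 hHn)
    rcases hMn.eq_bot_or_eq_top with h1 | h1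
    · rw [h1, mem_bot] at hm
      subst hm
      rw [map_one, inv_one, mul_one]
      exact one_mem _
    · exact absurd h1 hM
  have hxr := hR H hHt hxH
  have hMH : M ≤ H := le_sup_left
  have h1 : m⁻¹ * x * m * x⁻¹ ∈ radIn H := by
    have h2 := radIn_conj_mem (inv_mem (hMH hm)) hxr
    rw [inv_inv] at h2
    exact mul_mem h2 (inv_mem hxr)
  have h2 : m⁻¹ * x * m * x⁻¹ ∈ M := by
    have h3 := mul_mem (inv_mem hm) (hMx' _ hm)
    have e : m⁻¹ * x * m * x⁻¹ = m⁻¹ * (x * m * x⁻¹) := by group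
    rwa [e]
  have h3 := radIn_inf_le hMH ⟨h1, h2⟩
  have e : m⁻¹ * (MulAut.conj x) m = m⁻¹ * x * m * x⁻¹ := by rw [MulAut.conj_apply]; group
  rwa [e]

/-- no `RC` elements with `Tv` -/
def NoT (p : ℕ) (K : Type*) [Group K] : Prop :=
  ∀ x : K, orderOf x = p → RC (MulAut.conj x) → Tv p x → False

theorem NoE.of_noT [Finite K] [IsSimpleGroup K] (hna : ¬ IsMulCommutative K) [Fact p.Prime] (hp5 : 5 ≤ p)
    (h : NoT p K) : NoE p K := fun x hx hR hY =>
  h x hx (RC.of_re hR) (Tv.of_ye hp5 (center_eq_bot hna) hR hY)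

section Centre

variable {w w₁ g : K} {Q : Subgroup K}

/-- **elements moving `w₁`** -/
theorem false_of_move_tv (D : Centre p w w₁ g Q) (hp : p.Prime) {x : K} {j : ℤ}
    (hj : ¬ (p : ℤ) ∣ j) (hxw : x * w = w * x) (hx : x * w₁ * x⁻¹ = w₁ * w ^ j) (h : Tv p x) : False := by
  obtain ⟨q, k, hk, h1, h2⟩ := D.exists_q hp
  exact h w w₁ q j k D.ho D.ho₁ D.ww D.hnot hj hk hxw hx h1 h2

/-- **elements of `Q`** -/
theorem false_of_mem_tv (D : Centre p w w₁ g Q) (hp : p.Prime) {x : K}
    (hx : x ∈ Q) (ho : orderOf x = p) (h : Tv p x) : False := by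
  -- it suffices to treat the elements outside of `⟨w⟩`
  have key : ∀ x ∈ Q, x ∉ zpowers w → Tv p x → False := by
    intro x hx hxw h
    obtain ⟨c, hcw, hcQ, hne⟩ : ∃ c : K, c * w = w * c ∧ (∀ a ∈ Q, c * a * c⁻¹ ∈ Q) ∧
        x * (c * w₁ * c⁻¹) ≠ c * w₁ * c⁻¹ * x := by
      by_contra h1
      push Not at h1
      exact hxw (D.hirr x hx h1)
    have hne' : (c⁻¹ * x * c) * w₁ ≠ w₁ * (c⁻¹ * x * c) := by
      intro h1
      apply hne
      calc x * (c * w₁ * c⁻¹) = c * ((c⁻¹ * x * c) * w₁) * c⁻¹ := by group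
        _ = c * (w₁ * (c⁻¹ * x * c)) * c⁻¹ := by rw [h1]
        _ = c * w₁ * c⁻¹ * x := by group
    obtain ⟨j, hj⟩ := mem_zpowers_iff.1 (D.hcomm x hx _ (hcQ _ D.hmem))
    have cw : Commute c w := hcw
    have e0 : c⁻¹ * w ^ j * c = w ^ j := by
      rw [mul_assoc, ← (cw.zpow_right j).eq, inv_mul_cancel_left]
    have e1 : (c⁻¹ * x * c) * w₁ * (c⁻¹ * x * c)⁻¹ = w₁ * w ^ j := by
      rw [← ((show Commute w w₁ from D.ww).zpow_left j).eq]
      calc (c⁻¹ * x * c) * w₁ * (c⁻¹ * x * c)⁻¹ = c⁻¹ * (x * (c * w₁ * c⁻¹) * x⁻¹ * (c * w₁ * c⁻¹)⁻¹) * c * w₁ := by group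
        _ = c⁻¹ * w ^ j * c * w₁ := by rw [hj]
        _ = w ^ j * w₁ := by rw [e0]
    have hpj : ¬ (p : ℤ) ∣ j := by
      intro h1
      rw [zpow_eq_one_of_dvd D.ho h1, mul_one, mul_inv_eq_iff_eq_mul] at e1
      exact hne' e1
    have e2 : (c⁻¹ * x * c) * w = w * (c⁻¹ * x * c) := by
      have h1 : x * w = w * x := D.hc x hx
      have cxw : Commute (c⁻¹ * x * c) w := (cw.inv_left.mul_left h1).mul_left cw
      exact cxw
    have h2 := h.conj c⁻¹
    rw [inv_inv] at h2
    exact false_of_move_tv D hp hpj e2 e1 h2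
  by_cases hxw : x ∈ zpowers w
  · obtain ⟨i, rfl⟩ := mem_zpowers_iff.1 hxw
    have hi : ¬ (p : ℤ) ∣ i := by
      intro h1
      rw [zpow_eq_one_of_dvd D.ho h1, orderOf_one] at ho
      exact hp.one_lt.ne ho
    have e1 : g * w ^ i * g⁻¹ = w₁ ^ i := by rw [← D.hg, conj_zpow]
    refine key (g * w ^ i * g⁻¹) (by rw [e1]; exact zpow_mem D.hmem i) ?_ (h.conj g)
    rw [e1]
    exact fun h1 => D.hnot (mem_of_zpow hp D.ho₁ hi h1)
  · exact key x hx hxw h

/-- **`Q` a Sylow subgroup** -/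
theorem noT_of_sylow [Finite K] (D : Centre p w w₁ g Q) (hp : p.Prime)
    (hQ : IsPGroup p ↥Q) (hcard : ¬ p * Nat.card ↥Q ∣ Nat.card K) : NoT p K := by
  intro x hx _ h
  have : Fact p.Prime := ⟨hp⟩
  have hi : ¬ p ∣ Q.index := by
    intro h1
    apply hcard
    rw [← Q.card_mul_index, mul_comm p]
    exact mul_dvd_mul_left _ h1
  let P : Sylow p K := hQ.toSylow hi
  have hx' : IsPGroup p ↥(zpowers x) := IsPGroup.of_card (n := 1) (by rw [Nat.card_zpowers, hx, pow_one])
  obtain ⟨P', hP'⟩ := hx'.exists_le_sylow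
  obtain ⟨k, hk⟩ := MulAction.exists_smul_eq K P' P
  have h1 : k * x * k⁻¹ ∈ (P : Subgroup K) := by
    rw [← hk, Sylow.coe_subgroup_smul]
    exact smul_mem_pointwise_smul x (MulAut.conj k) _ (hP' (mem_zpowers x))
  exact false_of_mem_tv D hp (x := k * x * k⁻¹) h1 (by rw [← MulAut.conj_apply, MulEquiv.orderOf_eq, hx]) (h.conj k)

end Centre

end Cfsg.Agent.H301.SY
end

-- part: H959/T5/Trans
section
/-!
# S3854, elements of prime order `p ≥ 5`: transvections (helper959)

* `tv_of_te` : `TE x` implies `Tv p x` (`H301.SY.Tv`), `p ≥ 5`;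
* `NoTE.of_noT` : `H301.SY.NoT p K` (no `x` with `RC (conj x)` and `Tv p x`) implies `NoTE p K`;
  with `H301.SY.noT_of_sylow` etc.
-/

set_option autoImplicit false
set_option linter.unusedSectionVars false

namespace Cfsg.Agent.H959.T5

open Cfsg Subgroup Cfsg.Agent.H459.Rad Cfsg.Agent.H459.Iface Cfsg.Agent.SignalizersComponents.ComponentExists
open Cfsg.Agent.H301.SY Cfsg.Agent.H839.Rad
open Matrix (SpecialLinearGroup)

variable {K : Type*} [Group K] {p : ℕ}

/-- a matrix of order four -/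
def jm (F : Type*) [Field F] : _root_.Matrix.SpecialLinearGroup (Fin 2) F :=
  ⟨!![0, 1; -1, 0], by simp [Matrix.det_fin_two]⟩

theorem jm_pow (F : Type*) [Field F] : (jm F) ^ 4 = 1 := by
  have h : (jm F) ^ 2 = -1 := by
    apply Subtype.ext
    rw [pow_two]
    change !![(0 : F), 1; -1, 0] * !![(0 : F), 1; -1, 0] = _
    rw [Matrix.mul_fin_two]
    ext i j
    (revert i j; simp only [_root_.Fin.forall_fin_succ, _root_.MulZeroClass.mul_zero, _root_.mul_neg, _root_.mul_one, _root_.zero_add, _root_.add_zero, _root_.neg_zero, _root_.Matrix.of_apply, _root_.Matrix.cons_val', _root_.Matrix.cons_val_fin_one, _root_.Matrix.SpecialLinearGroup.coe_neg, _root_.Matrix.SpecialLinearGroup.coe_one, _root_.Matrix.neg_apply, Fin.isValue, _root_.Matrix.cons_val_zero, _root_.Matrix.cons_val_succ, _root_.IsEmpty.forall_iff, _root_.and_true, _root_.Matrix.one_apply_eq, Nat.reduceAdd, _root_.Fin.succ_zero_eq_one, _root_.ne_eq, _root_.zero_ne_one, _root_.not_false_eq_true, _root_.Matrix.one_apply_ne,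 _root_.and_self, _root_.Fin.succ_ne_zero, _root_.neg_inj, _root_.true_and])
  have : (jm F) ^ 4 = ((jm F) ^ 2) ^ 2 := by rw [← pow_mul]
  rw [this, h]
  simp only [_root_.even_two, _root_.Even.neg_pow, _root_.one_pow]

/-- **`Tv` from `TE`** -/
theorem tv_of_te [Finite K] [hp : Fact p.Prime] (hp5 : 5 ≤ p) {x : K} (hT : TE x) : Tv p x := by
  intro w w₁ q j k hw hw₁ hww hne hj hk hxw hxw₁ hqw₁ hqw
  have hwp : w ^ p = 1 := hw ▸ pow_orderOf_eq_one w
  have hw₁p : w₁ ^ p = 1 := hw₁ ▸ pow_orderOf_eq_one w₁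
  obtain ⟨h, hh⟩ := exists_act hw hw₁ hww hj hk hxw hxw₁ hqw₁ hqw (jm (ZMod p))
  obtain ⟨m, hm, l, hl⟩ := exists_part Nat.prime_two h 2
  have hjm : (jm (ZMod p)) ^ m = jm (ZMod p) := by
    have h4 : m ≡ 1 [MOD orderOf (jm (ZMod p))] := hm.of_dvd (orderOf_dvd_of_pow_eq_one (jm_pow (ZMod p)))
    have h5 := pow_eq_pow_iff_modEq.2 h4
    rw [h5, pow_one]
  have hy : Act (p := p) w w₁ (h ^ m) (jm (ZMod p)) := by
    have h1 := Act.pow hwp hw₁p hww hh m
    rwa [hjm] at h1
  refine not_solvable_of_act hp5 hw hw₁ hww hne hj hxw hxw₁ hy ?_ (hT (h ^ m) ⟨l, by rw [← hl, pow_orderOf_eq_one]⟩)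
  simp [jm]

/-- no `RC` elements with `Tv` -/
theorem NoTE.of_noT [Finite K] [IsSimpleGroup K] [Fact p.Prime] (hp5 : 5 ≤ p) (h : Cfsg.Agent.H301.SY.NoT p K) :
    NoTE p K := fun x hx hR hT => h x hx (RC.of_re hR) (tv_of_te hp5 hT)

end Cfsg.Agent.H959.T5
end

-- part: H196/T5/MEleven
section
/-!
# The Monster: the primes 5, 7, 11, 13 of the row of S3854 (helper196, for helper959)
-/

set_option autoImplicit false
set_option maxRecDepth 100000

namespace Cfsg.Agent.H196.T5.M

open Cfsg Subgroup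
open Cfsg.Agent.H459.Rad Cfsg.Agent.H459.Iface Cfsg.Agent.H839.Rad
open Cfsg.Agent.H109.Nr

/-- no element `x` of order `p` with `RC (conj x)` -/
def NoR (p : ℕ) (K : Type*) [Group K] : Prop := ∀ x : K, orderOf x = p → RC (MulAut.conj x) → False

/-- **The criterion of helper109 without the pair condition** : abelian Sylow `p`-subgroups of order `p ^ 2`, radical
elements commute with no involution, an element `y` of order `p` commuting with a four-group. -/
theorem noR_of_four {K : Type*} [Group K] [Finite K] {p : ℕ} (hp : p.Prime) (hp2 : p ≠ 2)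
    (h3 : ¬ p ^ 3 ∣ Nat.card K)
    (hnc : ∀ x : K, orderOf x = p → RC (MulAut.conj x) → ∀ t : K, orderOf t = 2 → x * t ≠ t * x)
    {y : K} (hy : orderOf y = p) (hyc : y ∉ center K)
    (hno : ∀ A : Subgroup ↥(centralizer ({y} : Set K)), (∀ a ∈ A, a * a = 1) → ∀ m, 1 ≤ m →
      Nat.card ↥A = 2 ^ m → ¬ p ∣ 2 ^ m - 1)
    {e f : K} (he : orderOf e = 2) (hf : orderOf f = 2) (hey : y * e = e * y) (hfy : y * f = f * y)
    (hef : e * f = f * e) (hne : e ≠ f) : NoR p K := by
  intro x hx h1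
  have hpf : Fact p.Prime := ⟨hp⟩
  have hab := sylow_comm hp h3
  -- conjugate `x`
  have hxp : IsPGroup p ↥(zpowers x) := IsPGroup.of_card (n := 1) (by rw [Nat.card_zpowers, hx, pow_one])
  have hyp : IsPGroup p ↥(zpowers y) := IsPGroup.of_card (n := 1) (by rw [Nat.card_zpowers, hy, pow_one])
  obtain ⟨P, hP⟩ := hxp.exists_le_sylow
  obtain ⟨P', hP'⟩ := hyp.exists_le_sylow
  obtain ⟨g, hg⟩ := MulAction.exists_smul_eq K P P'
  obtain ⟨x', hx'⟩ : ∃ x', x' = g * x * g⁻¹ := ⟨_, rfl⟩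
  have hmem : x' ∈ P' := by
    have : g * x * g⁻¹ ∈ (P' : Subgroup K) := by
      rw [← hg, Sylow.coe_subgroup_smul]
      exact smul_mem_pointwise_smul x (MulAut.conj g) _ (hP (mem_zpowers x))
    rw [hx']
    exact this
  have ho : orderOf x' = p := by rw [hx', ← MulAut.conj_apply, MulEquiv.orderOf_eq, hx]
  have hrc : RC (MulAut.conj x') := by rw [hx']; exact H839.Rad.rc_conj h1 g
  have hcomm : x' * y = y * x' := hab P' _ hmem _ (hP' (mem_zpowers y))
  have hxC : x' ∈ centralizer ({y} : Set K) := mem_centralizer_singleton_iff.2 hcomm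
  have hyC : y ∈ centralizer ({y} : Set K) := mem_centralizer_singleton_iff.2 rfl
  have heC : e ∈ centralizer ({y} : Set K) := mem_centralizer_singleton_iff.2 hey.symm
  have hfC : f ∈ centralizer ({y} : Set K) := mem_centralizer_singleton_iff.2 hfy.symm
  have htop : centralizer ({y} : Set K) ≠ ⊤ := by
    intro h1
    apply hyc
    rw [mem_center_iff]
    intro g
    exact mem_centralizer_singleton_iff.1 (h1 ▸ mem_top g)
  refine false_of_four (C := ↥(centralizer ({y} : Set K))) (x := ⟨x', hxC⟩) (y := ⟨y, hyC⟩) (e := ⟨e, heC⟩)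
    (f := ⟨f, hfC⟩) hp hp2 (by rw [Subgroup.orderOf_mk, ho]) (by rw [Subgroup.orderOf_mk, hy]) ?_ ?_ ?_ ?_ ?_ ?_
    (by rw [Subgroup.orderOf_mk, he]) (by rw [Subgroup.orderOf_mk, hf]) (Subtype.ext hef) ?_
  · intro g
    exact Subtype.ext (mem_centralizer_singleton_iff.1 g.2)
  · intro hxy
    obtain ⟨k, hk⟩ := mem_zpowers_iff.1 hxy
    have hk' : y ^ k = x' := congrArg Subtype.val hk
    refine hnc x' ho hrc e he ?_
    rw [← hk']
    exact (show Commute y e from hey).zpow_left k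
  · intro h
    exact h3 (h.trans (card_subgroup_dvd_card _))
  · exact H839.Rad.mem_rad hrc htop hxC
  · intro t ht hc
    exact hnc x' ho hrc t (by rw [Subgroup.orderOf_coe, ht]) (congrArg Subtype.val hc)
  · intro A hA hAn hAne
    by_contra hcon
    push Not at hcon
    obtain ⟨m, hm1, hm, hd⟩ := exists_pow (x := (⟨x', hxC⟩ : ↥(centralizer ({y} : Set K)))) hp
      (by rw [Subgroup.orderOf_mk, ho]) hA hAn hAne (fun a ha hc => by
        by_contra h
        exact hcon a ha h hc)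
    exact hno A hA m hm1 hm hd
  · intro h
    exact hne (congrArg Subtype.val h)

open Cfsg.Agent.MonsterX Cfsg.Agent.MonsterX.InstData Cfsg.Agent.MonsterX.MainPack Cfsg.Agent.MonsterU
open Cfsg.Agent.MonsterP Cfsg.Agent.MonsterN Cfsg.Agent.LThreeMB
open Cfsg.Agent.MonsterX.MainBasic Cfsg.Agent.MonsterX.MainSimple Cfsg.Agent.MonsterX.Model
open Cfsg.Agent.MonsterU.Lam2 Cfsg.Agent.MonsterU.TwoCls
open Cfsg.Agent.BpTab Cfsg.Agent.BpSpor.MBigModel Cfsg.Agent.BpSpor Cfsg.Agent.H109.Nr.M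

theorem noR_eleven : NoR 11 MG := by
  have hfin := finite
  obtain ⟨y, w, hy, hw, hyz, hyw, hzw, hne⟩ := exists_eleven
  refine noR_of_four (by norm_num) (by norm_num) (by rw [card_M]; norm_num)
    (fun x hx h t ht => ncomm (by norm_num) (by norm_num) hx h ht) hy ?_ ?_ orderOf_zz hw hyz hyw hzw hne
  · rw [center_model, Subgroup.mem_bot]
    rintro rfl
    rw [orderOf_one] at hy
    norm_num at hy
  · intro A hA m hm1 hm
    exact MBigEleven.noTwo hy A hA m hm1 (hm ▸ dvd_rfl)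

theorem noR_five : NoR 5 ↥InstData.M.G := fun _ hx h => Cfsg.Agent.H847.RadFive.false_model hx h

theorem noT_thirteen : Cfsg.Agent.H301.SY.NoT 13 MG := by
  have hfin := finite
  intro x hx hR hT
  obtain ⟨w, w₁, g, Q, D, hQ, hc⟩ := Cfsg.Agent.H109.Nr.T.data_thirteen hx hR
  exact Cfsg.Agent.H301.SY.noT_of_sylow D (by norm_num) hQ hc x hx hR hT

end Cfsg.Agent.H196.T5.M
end

-- part: H196/T5/MSeven
section
/-!
# The Monster: the prime 7 (helper196, after helper961)
-/

set_option autoImplicit false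
set_option maxRecDepth 100000

namespace Cfsg.Agent.H196.T5.M

section final

open Cfsg Subgroup Cfsg.Agent.H459.Rad Cfsg.Agent.H459.Iface Cfsg.Agent.H839.Rad Cfsg.Agent.H961.SevLift
open Cfsg.Agent.H301.SY (Tv)

variable {K : Type*} [Group K] [Finite K] {y w v s a c : K} {Q : Subgroup K}

/-- **No element of order 7 in `Q` with `Tv`** (copy of `Loc.final` of helper961, with `Tv` instead of `PS`) -/
theorem final_tv (h : Loc y w v s a c) (hQ : QQ w Q) (h5 : ¬ 7 ^ 5 ∣ Nat.card ↥(centralizer ({y} : Set K)))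
    (h7 : ¬ 7 ^ 7 ∣ Nat.card K) {x : K} (hx : x ∈ Q) (hxw : x ∉ zpowers w)
    (hps : Tv 7 x) : False := by
  obtain ⟨hw1, s1, hs1, hs1w⟩ := h.mem_Q hQ h5 h7
  obtain ⟨w1, hw1e⟩ : ∃ w1, w1 = a * w * a⁻¹ := ⟨_, rfl⟩
  rw [← hw1e] at hw1 hs1w
  have hwo : orderOf w = 7 := by
    have : Fact (Nat.Prime 7) := ⟨by norm_num⟩
    exact orderOf_eq_prime h.w7 h.w1
  have hw1o : orderOf w1 = 7 := by rw [hw1e, ← MulAut.conj_apply, MulEquiv.orderOf_eq, hwo]
  have hww1 : w * w1 = w1 * w := (mem_centralizer_singleton_iff.1 (hQ.le hw1)).symm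
  have hw1n : w1 ∉ zpowers w := by
    intro h1
    obtain ⟨i, hi⟩ := mem_zpowers_iff.1 h1
    apply hs1w
    rw [← hi]
    exact ((show Commute s1 w from mem_centralizer_singleton_iff.1 (hQ.le hs1)).zpow_right i).eq
  -- a conjugate of `x` which does not commute with `w1`
  obtain ⟨d, hd, hdx⟩ : ∃ d : K, d * w = w * d ∧ (d * x * d⁻¹) * w1 ≠ w1 * (d * x * d⁻¹) := by
    by_contra hcon
    push Not at hcon
    let U : Subgroup K := _root_.Subgroup.closure ({g | ∃ d : K, d * w = w * d ∧ g = d * x * d⁻¹} ∪ {w})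
    have hU1 : ∀ d : K, d * w = w * d → ∀ q ∈ U, d * q * d⁻¹ ∈ U := by
      intro d hd q hq
      have h1 : U.map (MulAut.conj d).toMonoidHom ≤ U := by
        rw [MonoidHom.map_closure, closure_le]
        rintro _ ⟨g, hg, rfl⟩
        apply Subgroup.subset_closure
        rcases hg with ⟨e, he, rfl⟩ | hg
        · left
          refine ⟨d * e, by rw [mul_assoc, he, ← mul_assoc, hd, mul_assoc], ?_⟩
          change d * (e * x * e⁻¹) * d⁻¹ = _
          group
        · right
          rw [Set.mem_singleton_iff] at hg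
          subst hg
          change d * g * d⁻¹ = g
          rw [hd, mul_inv_cancel_right]
      exact h1 ⟨q, hq, rfl⟩
    have hUw : w ∈ U := Subgroup.subset_closure (Or.inr rfl)
    have hUx : x ∈ U := Subgroup.subset_closure (Or.inl ⟨1, by rw [one_mul, mul_one], by group⟩)
    have hUQ : U ≤ Q := by
      rw [closure_le]
      rintro _ (⟨e, he, rfl⟩ | hg)
      · exact hQ.norm e he x hx
      · rw [Set.mem_singleton_iff] at hg
        rw [hg]
        exact hQ.mem
    have hU := hQ.irr U hU1 hUw hUQ (fun h1 => hxw (h1 ▸ hUx))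
    have hUc : U ≤ centralizer ({w1} : Set K) := by
      rw [closure_le]
      rintro _ (⟨e, he, rfl⟩ | hg)
      · exact mem_centralizer_singleton_iff.2 (hcon e he)
      · rw [Set.mem_singleton_iff] at hg
        rw [hg]
        exact mem_centralizer_singleton_iff.2 hww1
    rw [hU] at hUc
    exact hs1w (mem_centralizer_singleton_iff.1 (hUc hs1))
  obtain ⟨x1, hx1⟩ : ∃ x1, x1 = d * x * d⁻¹ := ⟨_, rfl⟩
  rw [← hx1] at hdx
  have hx1Q : x1 ∈ Q := hx1 ▸ hQ.norm d hd x hx
  have hps1 : Tv 7 x1 := hx1 ▸ hps.conj d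
  have hx1w : x1 * w = w * x1 := mem_centralizer_singleton_iff.1 (hQ.le hx1Q)
  obtain ⟨m, hm⟩ := mem_zpowers_iff.1 (hQ.comm x1 hx1Q w1 hw1)
  have hm7 : ¬ (7 : ℤ) ∣ m := by
    intro h1
    apply hdx
    have h2 : w ^ m = 1 := by
      rw [← orderOf_dvd_iff_zpow_eq_one, hwo]
      exact h1
    rw [h2] at hm
    have h3 := hm.symm
    rw [mul_inv_eq_one, mul_inv_eq_iff_eq_mul] at h3
    exact h3
  have cww1 : ∀ i : ℤ, w ^ i * w1 = w1 * w ^ i := fun i => ((show Commute w w1 from hww1).zpow_left i).eq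
  have hub : x1 * w1 * x1⁻¹ = w1 * w ^ m := by
    rw [← cww1, hm]
    group
  have haw1 : a * w1 * a⁻¹ = w⁻¹ := by rw [hw1e]; exact h.a_w1
  have : Fact (Nat.Prime 7) := ⟨by norm_num⟩
  refine hps1 w w1 (a * x1 * a⁻¹) m (-m) hwo hw1o hww1 hw1n hm7 (by
    change ¬ (7 : ℤ) ∣ -m
    rwa [dvd_neg]) hx1w hub ?_ ?_
  · rw [hw1e]
    calc a * x1 * a⁻¹ * (a * w * a⁻¹) = a * (x1 * w) * a⁻¹ := by group
      _ = a * w * a⁻¹ * (a * x1 * a⁻¹) := by rw [hx1w]; group
  · have e1 : w = a * w1⁻¹ * a⁻¹ := by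
      have : a * w1⁻¹ * a⁻¹ = (a * w1 * a⁻¹)⁻¹ := by rw [conj_inv]
      rw [this, haw1, inv_inv]
    have e2 : a * w ^ (-m) * a⁻¹ = w1 ^ (-m) := by rw [hw1e, conj_zpow]
    have e3 : x1 * w1⁻¹ * x1⁻¹ = w1⁻¹ * w ^ (-m) := by
      have : x1 * w1⁻¹ * x1⁻¹ = (x1 * w1 * x1⁻¹)⁻¹ := by rw [conj_inv]
      rw [this, hub, mul_inv_rev, ← zpow_neg]
      exact (((show Commute w w1 from hww1).zpow_left (-m)).inv_right).eq
    calc a * x1 * a⁻¹ * w * (a * x1 * a⁻¹)⁻¹ = a * x1 * a⁻¹ * (a * w1⁻¹ * a⁻¹) * (a * x1 * a⁻¹)⁻¹ := by rw [← e1]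
      _ = a * (x1 * w1⁻¹ * x1⁻¹) * a⁻¹ := by group
      _ = (a * w1⁻¹ * a⁻¹) * (a * w ^ (-m) * a⁻¹) := by rw [e3]; group
      _ = w * w1 ^ (-m) := by rw [← e1, e2]

end final

section model

open Cfsg Cfsg.Spor Subgroup
open Cfsg.Agent.MonsterX Cfsg.Agent.MonsterX.InstData
open Cfsg.Agent.MonsterP
open Cfsg.Agent.LThreeMB (fr XX Zx zD self self_mem_center toXX toCC be be_coe KChart.Cent KChart.pi KChart.chart
  exists_XX_equiv)
open Cfsg.Agent.H459.Rad Cfsg.Agent.H839.Rad
open Cfsg.Agent.H961.HeLocal Cfsg.Agent.H961.SevLift Cfsg.Agent.H961.SevM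
open Cfsg.Agent.CpAutMSeven.ZeroComps (heSix)
open Cfsg.Agent.BpRankZero

/-- **No radical element of order 7 with `Tv`** (after `noRad_model` of helper961) -/
theorem noT_seven : Cfsg.Agent.H301.SY.NoT 7 ↥InstData.M.G := by
  have := MFive.Row.finite_model
  have hp7 : Nat.Prime 7 := by norm_num
  have : Fact (Nat.Prime 7) := ⟨hp7⟩
  have hc : center ↥InstData.M.G = ⊥ := BpSpor.center_eq_bot_of_card MonsterP.EquivOf.isM_model.1 (by
    rw [card_model]; norm_num)
  have hnc : ∀ {t : ↥InstData.M.G}, t ≠ 1 → t ∉ center ↥InstData.M.G := by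
    intro t ht h1
    rw [hc, mem_bot] at h1
    exact ht h1
  obtain ⟨y, v, s, a, c, w, hL, h5⟩ := exists_data'
  obtain ⟨Q, hQ, hrad⟩ := exists_qq hL h5
  intro x hx hrc hps
  obtain ⟨P, -, hP⟩ := hL.sylow_le h5 (by rw [card_model]; norm_num)
  have hxp : IsPGroup 7 ↥(zpowers x) := IsPGroup.of_card (n := 1) (by rw [Nat.card_zpowers, hx, pow_one])
  obtain ⟨P', hP'⟩ := hxp.exists_le_sylow
  obtain ⟨g, hg⟩ := MulAction.exists_smul_eq ↥InstData.M.G P' P
  have hgx : g * x * g⁻¹ ∈ (P : Subgroup ↥InstData.M.G) := by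
    rw [← hg, Sylow.coe_subgroup_smul]
    exact smul_mem_pointwise_smul x (MulAut.conj g) _ (hP' (mem_zpowers x))
  have hrc' := rc_conj hrc g
  have hps' := hps.conj g
  have ho' : orderOf (g * x * g⁻¹) = 7 := by rw [← MulAut.conj_apply, MulEquiv.orderOf_eq, hx]
  have hCw : centralizer ({(w : ↥InstData.M.G)} : Set ↥InstData.M.G) ≠ ⊤ := by
    intro h1
    refine hnc hL.w1 (mem_center_iff.2 fun k => ?_)
    exact mem_centralizer_singleton_iff.1 (h1 ▸ mem_top k)
  have hxQ : g * x * g⁻¹ ∈ Q := hrad ⟨_, hP hgx⟩ (mem_rad hrc' hCw (hP hgx)) ⟨1, Subtype.ext (by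
    change (g * x * g⁻¹) ^ 7 ^ 1 = 1
    rw [pow_one, ← ho', pow_orderOf_eq_one])⟩
  refine final_tv hL hQ h5 (by rw [card_model]; norm_num) hxQ ?_ hps'
  intro hxw
  have h := KChart.chart KDone.lft MFive.Row.hc
  have hz1 : (KDone.K.z : ↥InstData.M.G) ≠ 1 := h.large.z_ne
  obtain ⟨i, hi⟩ := mem_zpowers_iff.1 hxw
  refine false_of_comm ho' hrc' (hnc hz1) ?_ radFree_z
  rw [← hi]
  exact ((show Commute (w : ↥InstData.M.G) KDone.K.z from mem_centralizer_singleton_iff.1 w.2).zpow_left i).eq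

end model

end Cfsg.Agent.H196.T5.M
end

private theorem dce_3b1b71e15e55 : _root_.True := by
  try have : _root_.True := by simp only [_root_.Cfsg.Agent.ClassicalGeometry.SplitTorus.dg.eq_1]
  try have : _root_.True := by simp only [_root_.Cfsg.Agent.H959.T5.jm.eq_1]
  try have : _root_.True := by simp only [_root_.Cfsg.Agent.H459.Rad.radIn.eq_1]
  try have : _root_.True := by simp only [_root_.Cfsg.Agent.ClassicalGeometry.SplitTorus.lo.eq_1]
  exact _root_.True.intro
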